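import Cfsg.Agent.Lib.Coprime.Generation
import Cfsg.Agent.Lib.Coprime.PQ
import Cfsg.Agent.Lib.Cores.Basic

/-!
# Flavell: generators for the fixed points in `[K, A]`, `A` of odd prime order: elementary lemmas

* `cc a h` : the subgroup `[h, ⟨a⟩]` generated by the `h⁻¹ aⁱ h a⁻ⁱ`
* `dd a K` : the subgroup generated by the fixed points of the `cc a h`, `h ∈ K`
* `cc_le_commutator_cc`, `map_cc`, `dd_conj`, `commutator_zpowers_le`, `commutator_sup_le`,
  `mem_derived_of_central`, `dd_image`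
-/

set_option autoImplicit false
set_option linter.style.haveILetI false

open scoped Pointwise commutatorElement

namespace Cfsg.Agent.FlavellGen

variable {G : Type*} [Group G]

/-- `[h, ⟨a⟩]`. -/
def cc (a h : G) : Subgroup G :=
  Subgroup.closure (Set.range fun i : ℕ => h⁻¹ * a ^ i * h * (a ^ i)⁻¹)

/-- The subgroup generated by the fixed points of the `[h, ⟨a⟩]`, `h ∈ K`. -/
def dd (a : G) (K : Subgroup G) : Subgroup G :=
  ⨆ (h : G) (_ : h ∈ K), cc a h ⊓ Subgroup.centralizer (Subgroup.zpowers a : Set G)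

theorem gen_mem_cc (a h : G) (i : ℕ) : h⁻¹ * a ^ i * h * (a ^ i)⁻¹ ∈ cc a h :=
  Subgroup.subset_closure ⟨i, rfl⟩

theorem gen_one_mem_cc (a h : G) : h⁻¹ * a * h * a⁻¹ ∈ cc a h := by
  simpa using gen_mem_cc a h 1

theorem cc_le {a h : G} {K : Subgroup G} (ha : a ∈ Subgroup.normalizer (K : Set G)) (hh : h ∈ K) :
    cc a h ≤ K := by
  rw [cc, Subgroup.closure_le]
  rintro _ ⟨i, rfl⟩
  show h⁻¹ * a ^ i * h * (a ^ i)⁻¹ ∈ K
  rw [show h⁻¹ * a ^ i * h * (a ^ i)⁻¹ = h⁻¹ * (a ^ i * h * (a ^ i)⁻¹) by group]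
  exact K.mul_mem (K.inv_mem hh)
    ((Subgroup.mem_normalizer_iff.mp (Subgroup.pow_mem _ ha i) h).mp hh)

theorem cc_le_commutator {a h : G} {K : Subgroup G} (hh : h ∈ K) :
    cc a h ≤ ⁅K, Subgroup.zpowers a⁆ := by
  rw [cc, Subgroup.closure_le]
  rintro _ ⟨i, rfl⟩
  show h⁻¹ * a ^ i * h * (a ^ i)⁻¹ ∈ ⁅K, Subgroup.zpowers a⁆
  have := Subgroup.commutator_mem_commutator (K.inv_mem hh)
    (Subgroup.pow_mem _ (Subgroup.mem_zpowers a) i)
  simpa [commutatorElement_def, mul_assoc] using this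

theorem cc_conj_mem (a h : G) {x : G} (hx : x ∈ cc a h) : a * x * a⁻¹ ∈ cc a h := by
  have : cc a h ≤ (cc a h).comap (MulAut.conj a).toMonoidHom := by
    conv_lhs => rw [cc]
    rw [Subgroup.closure_le]
    rintro _ ⟨i, rfl⟩
    show a * (h⁻¹ * a ^ i * h * (a ^ i)⁻¹) * a⁻¹ ∈ cc a h
    have e : a * (h⁻¹ * a ^ i * h * (a ^ i)⁻¹) * a⁻¹ =
        (h⁻¹ * a * h * a⁻¹)⁻¹ * (h⁻¹ * a ^ (i + 1) * h * (a ^ (i + 1))⁻¹) := by
      rw [pow_succ']; group
    rw [e]
    exact (cc a h).mul_mem ((cc a h).inv_mem (gen_one_mem_cc a h)) (gen_mem_cc a h (i + 1))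
  exact this hx

theorem zpowers_le_normalizer_cc [Finite G] (a h : G) :
    Subgroup.zpowers a ≤ Subgroup.normalizer (cc a h : Set G) :=
  Subgroup.zpowers_le.mpr (Coprime.mem_normalizer_of_forall fun _ hx => cc_conj_mem a h hx)

theorem map_cc {G' : Type*} [Group G'] (f : G →* G') (a h : G) :
    (cc a h).map f = cc (f a) (f h) := by
  rw [cc, cc, MonoidHom.map_closure, ← Set.range_comp]
  congr 1
  refine congrArg Set.range (funext fun i => ?_)
  simp

theorem inf_le_dd {a h : G} {K : Subgroup G} (hh : h ∈ K) :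
    cc a h ⊓ Subgroup.centralizer (Subgroup.zpowers a : Set G) ≤ dd a K :=
  le_iSup₂ (f := fun (h : G) (_ : h ∈ K) =>
    cc a h ⊓ Subgroup.centralizer (Subgroup.zpowers a : Set G)) h hh

theorem dd_le {a : G} {K : Subgroup G} (ha : a ∈ Subgroup.normalizer (K : Set G)) :
    dd a K ≤ K ⊓ Subgroup.centralizer (Subgroup.zpowers a : Set G) :=
  iSup₂_le fun _ hh => inf_le_inf_right _ (cc_le ha hh)

theorem dd_mono {a : G} {K L : Subgroup G} (h : K ≤ L) : dd a K ≤ dd a L :=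
  iSup₂_le fun _ hh => inf_le_dd (h hh)

theorem map_dd_le {G' : Type*} [Group G'] (f : G →* G') (a : G) (K : Subgroup G) :
    (dd a K).map f ≤ dd (f a) (K.map f) := by
  rw [dd, Subgroup.map_le_iff_le_comap]
  refine iSup₂_le fun h hh => ?_
  rw [← Subgroup.map_le_iff_le_comap]
  refine le_trans (le_inf ?_ ?_) (inf_le_dd ⟨h, hh, rfl⟩)
  · exact (Subgroup.map_mono inf_le_left).trans (map_cc f a h).le
  · rintro _ ⟨x, hx, rfl⟩ _ ⟨k, rfl⟩
    have := Subgroup.mem_centralizer_iff.mp hx.2 (a ^ k) (Subgroup.zpow_mem _ (Subgroup.mem_zpowers a) k)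
    show f a ^ k * f x = f x * f a ^ k
    rw [← map_zpow, ← map_mul, this, map_mul]

theorem commute_of_mem_centralizer {a x : G}
    (hx : x ∈ Subgroup.centralizer (Subgroup.zpowers a : Set G)) : Commute a x :=
  Subgroup.mem_centralizer_iff.mp hx a (Subgroup.mem_zpowers a)

theorem mem_centralizer_of_commute {a x : G} (hx : Commute a x) :
    x ∈ Subgroup.centralizer (Subgroup.zpowers a : Set G) := by
  rintro _ ⟨k, rfl⟩
  exact (hx.zpow_left k).eq

/-- `C_K(a)` normalises `dd a K`. -/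
theorem dd_conj {a : G} {K : Subgroup G} {c x : G} (hc : c ∈ K) (hca : Commute a c)
    (hx : x ∈ dd a K) : c * x * c⁻¹ ∈ dd a K := by
  have : dd a K ≤ (dd a K).comap (MulAut.conj c).toMonoidHom := by
    refine iSup₂_le fun h hh => ?_
    intro y hy
    refine inf_le_dd (K.mul_mem hh (K.inv_mem hc)) ⟨?_, ?_⟩
    · have hle : cc a h ≤ (cc a (h * c⁻¹)).comap (MulAut.conj c).toMonoidHom := by
        conv_lhs => rw [cc]
        rw [Subgroup.closure_le]
        rintro _ ⟨i, rfl⟩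
        show c * (h⁻¹ * a ^ i * h * (a ^ i)⁻¹) * c⁻¹ ∈ cc a (h * c⁻¹)
        have hci : Commute (a ^ i) c := hca.pow_left i
        have e : c * (h⁻¹ * a ^ i * h * (a ^ i)⁻¹) * c⁻¹ =
            (h * c⁻¹)⁻¹ * a ^ i * (h * c⁻¹) * (a ^ i)⁻¹ := by
          calc c * (h⁻¹ * a ^ i * h * (a ^ i)⁻¹) * c⁻¹
              = c * h⁻¹ * a ^ i * h * ((a ^ i)⁻¹ * c⁻¹) := by group
            _ = c * h⁻¹ * a ^ i * h * (c⁻¹ * (a ^ i)⁻¹) := by rw [hci.inv_left.inv_right.eq]
            _ = _ := by group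
        rw [e]
        exact gen_mem_cc _ _ i
      exact hle hy.1
    · refine mem_centralizer_of_commute ?_
      exact (hca.mul_right (commute_of_mem_centralizer hy.2)).mul_right hca.inv_right
  exact this hx

/-- `[K, ⟨a⟩]` is generated by the `[h, ⟨a⟩]`. -/
theorem commutator_le_of_cc [Finite G] {a : G} {K W : Subgroup G} (h : ∀ k ∈ K, cc a k ≤ W) :
    ⁅K, Subgroup.zpowers a⁆ ≤ W := by
  rw [Subgroup.commutator_le]
  intro k hk b hb
  obtain ⟨i, rfl⟩ := mem_powers_iff_mem_zpowers.mpr hb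
  have := h k⁻¹ (K.inv_mem hk) (gen_mem_cc a k⁻¹ i)
  simpa [commutatorElement_def, mul_assoc] using this

/-- Commutators with a generator suffice. -/
theorem commutator_zpowers_le [Finite G] {b : G} {K W : Subgroup G}
    (hb : b ∈ Subgroup.normalizer (K : Set G)) (h : ∀ k ∈ K, ⁅b, k⁆ ∈ W) :
    ⁅K, Subgroup.zpowers b⁆ ≤ W := by
  have key : ∀ j : ℕ, ∀ k ∈ K, ⁅b ^ j, k⁆ ∈ W := by
    intro j
    induction j with
    | zero => intro k _; simp
    | succ j ih =>
      intro k hk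
      have e : ⁅b ^ (j + 1), k⁆ = ⁅b ^ j, b * k * b⁻¹⁆ * ⁅b, k⁆ := by
        simp only [commutatorElement_def, pow_succ]; group
      rw [e]
      exact W.mul_mem (ih _ ((Subgroup.mem_normalizer_iff.mp hb k).mp hk)) (h k hk)
  rw [Subgroup.commutator_le]
  intro k hk x hx
  obtain ⟨j, rfl⟩ := mem_powers_iff_mem_zpowers.mpr hx
  rw [← commutatorElement_inv]
  exact W.inv_mem (key j k hk)

/-- `[h, ⟨a⟩] = [[h, ⟨a⟩], ⟨a⟩]` in a coprime action. -/
theorem cc_le_commutator_cc [Finite G] {a h : G} {K : Subgroup G}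
    (ha : a ∈ Subgroup.normalizer (K : Set G))
    (hcop : (Nat.card (Subgroup.zpowers a)).Coprime (Nat.card K)) (hh : h ∈ K) :
    cc a h ≤ ⁅cc a h, Subgroup.zpowers a⁆ := by
  set A := Subgroup.zpowers a
  set M := cc a h
  have hMK : M ≤ K := cc_le ha hh
  have hL : Subgroup.zpowers (h⁻¹ * a * h) ≤ M ⊔ A := by
    rw [Subgroup.zpowers_le]
    have := Subgroup.mul_mem_sup (gen_one_mem_cc a h) (Subgroup.mem_zpowers a)
    simpa using this
  obtain ⟨m, hm, hmA⟩ := Coprime.exists_conj_eq_of_le_sup (zpowers_le_normalizer_cc a h)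
    (hcop.coprime_dvd_right (Subgroup.card_dvd_of_le hMK))
    (Or.inl (Group.isSolvable_of_comm fun x y => mul_comm' x y)) hL
    (by rw [Nat.card_zpowers, Nat.card_zpowers]
        exact (SemiconjBy.orderOf_eq h⁻¹ (x := a) (y := h⁻¹ * a * h)
          (by simp [SemiconjBy, mul_assoc])).symm)
  have h1 : m⁻¹ * (h⁻¹ * a * h) * m ∈ A := Coprime.mem_conj.mp (hmA ▸ Subgroup.mem_zpowers _)
  have h2 : m⁻¹ * (h⁻¹ * a * h) * m * a⁻¹ ∈ K := by
    rw [show m⁻¹ * (h⁻¹ * a * h) * m * a⁻¹ = m⁻¹ * h⁻¹ * (a * (h * m) * a⁻¹) by group]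
    exact K.mul_mem (K.mul_mem (K.inv_mem (hMK hm)) (K.inv_mem hh))
      ((Subgroup.mem_normalizer_iff.mp ha _).mp (K.mul_mem hh (hMK hm)))
  have h3 := mul_inv_eq_one.mp (Coprime.eq_one_of_mem_of_mem hcop
    (A.mul_mem h1 (A.inv_mem (Subgroup.mem_zpowers a))) h2)
  have h4 : h⁻¹ * a * h = m * a * m⁻¹ := by
    calc h⁻¹ * a * h = m * (m⁻¹ * (h⁻¹ * a * h) * m) * m⁻¹ := by group
      _ = m * a * m⁻¹ := by rw [h3]
  conv_lhs => rw [show M = cc a h from rfl, cc]
  rw [Subgroup.closure_le]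
  rintro _ ⟨i, rfl⟩
  show h⁻¹ * a ^ i * h * (a ^ i)⁻¹ ∈ ⁅M, A⁆
  have h5 : h⁻¹ * a ^ i * h = m * a ^ i * m⁻¹ := by
    have := congrArg (· ^ i) h4
    simp only [conj_pow] at this
    rw [← this, show h⁻¹ * a * h = h⁻¹ * a * h⁻¹⁻¹ by group, conj_pow]
    group
  rw [h5, ← commutatorElement_def]
  exact Subgroup.commutator_mem_commutator hm (Subgroup.pow_mem _ (Subgroup.mem_zpowers a) i)

/-- `⁅N T, N T⁆ ≤ N ⁅T, T⁆`. -/
theorem commutator_sup_le {N T : Subgroup G} (hT : T ≤ Subgroup.normalizer (N : Set G)) :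
    ⁅N ⊔ T, N ⊔ T⁆ ≤ N ⊔ ⁅T, T⁆ := by
  rw [Subgroup.commutator_le]
  intro x hx y hy
  obtain ⟨n, hn, c, hc, rfl⟩ := (Coprime.mem_sup_iff hT).mp hx
  obtain ⟨n', hn', c', hc', rfl⟩ := (Coprime.mem_sup_iff hT).mp hy
  have e : ⁅n * c, n' * c'⁆ = n * (c * n' * c⁻¹) * ⁅c, c'⁆ * (c' * n⁻¹ * c'⁻¹) * n'⁻¹ := by
    simp only [commutatorElement_def]; group
  rw [e]
  refine Subgroup.mul_mem _ (Subgroup.mul_mem _ (Subgroup.mul_mem _ (Subgroup.mem_sup_left
    (N.mul_mem hn ((Subgroup.mem_normalizer_iff.mp (hT hc) n').mp hn'))) ?_) ?_)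
    (Subgroup.mem_sup_left (N.inv_mem hn'))
  · exact Subgroup.mem_sup_right (Subgroup.commutator_mem_commutator hc hc')
  · exact Subgroup.mem_sup_left ((Subgroup.mem_normalizer_iff.mp (hT hc') n⁻¹).mp (N.inv_mem hn))

/-- A central element of `K'` in a Sylow subgroup lies in its derived subgroup (transfer). -/
theorem mem_derived_of_central {K : Type*} [Group K] [Finite K] {r : ℕ} [Fact r.Prime]
    (S : Sylow r K) {v : K} (hv : v ∈ (S : Subgroup K)) (hvc : v ∈ Subgroup.center K)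
    (hvK : v ∈ _root_.commutator K) : v ∈ ⁅(S : Subgroup K), (S : Subgroup K)⁆ := by
  haveI : (S : Subgroup K).FiniteIndex := Subgroup.finiteIndex_of_finite
  let ϕ : (S : Subgroup K) →* Abelianization (S : Subgroup K) := Abelianization.of
  have key : ∀ (k : ℕ) (g₀ : K), g₀⁻¹ * v ^ k * g₀ ∈ (S : Subgroup K) →
      g₀⁻¹ * v ^ k * g₀ = v ^ k := fun k g₀ _ => by
    rw [mul_assoc, ← Subgroup.mem_center_iff.mp (Subgroup.pow_mem _ hvc k) g₀,
      inv_mul_cancel_left]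
  have h0 : MonoidHom.transfer ϕ v = 1 := by
    have := Abelianization.commutator_subset_ker (MonoidHom.transfer ϕ) hvK
    simpa using this
  rw [MonoidHom.transfer_eq_pow ϕ v key] at h0
  have h1 : (⟨v ^ (S : Subgroup K).index, MonoidHom.transfer_eq_pow_aux v key⟩ : (S : Subgroup K)) ∈
      _root_.commutator (S : Subgroup K) := by
    rw [← Abelianization.ker_of]
    exact h0
  have h2 : v ^ (S : Subgroup K).index ∈ ⁅(S : Subgroup K), (S : Subgroup K)⁆ := by
    have h3 := Subgroup.mem_map_of_mem (S : Subgroup K).subtype h1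
    rwa [_root_.commutator_def, Subgroup.map_commutator, ← MonoidHom.range_eq_map,
      Subgroup.range_subtype] at h3
  refine Coprime.mem_of_pow_mem ?_ h2
  obtain ⟨k, hk⟩ := IsPGroup.iff_card.mp S.2
  have hd : orderOf v ∣ r ^ k := by
    rw [← hk, ← Subgroup.orderOf_mk v hv]
    exact orderOf_dvd_natCard _
  exact Nat.Coprime.coprime_dvd_left hd
    (((Fact.out : r.Prime).coprime_iff_not_dvd.mpr S.not_dvd_index).pow_left k)

/-- Fixed points of the images lift. -/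
theorem dd_image [Finite G] {G' : Type*} [Group G'] (f : G →* G') {a : G} {K : Subgroup G}
    (ha : a ∈ Subgroup.normalizer (K : Set G))
    (hcop : (Nat.card (Subgroup.zpowers a)).Coprime (Nat.card K)) :
    dd (f a) (K.map f) ≤ (dd a K).map f := by
  refine iSup₂_le ?_
  rintro _ ⟨h, hh, rfl⟩ y ⟨hy, hyc⟩
  rw [← map_cc] at hy
  obtain ⟨x, hx, rfl⟩ := hy
  set A := Subgroup.zpowers a
  have hN : A ≤ Subgroup.normalizer ((cc a h ⊓ f.ker : Subgroup G) : Set G) :=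
    Subgroup.zpowers_le.mpr (Coprime.mem_normalizer_of_forall fun z hz =>
      ⟨cc_conj_mem a h hz.1, (inferInstance : f.ker.Normal).conj_mem z hz.2 a⟩)
  obtain ⟨c, hc, hcx⟩ := Coprime.exists_mem_centralizer_of_coset (zpowers_le_normalizer_cc a h)
    (hcop.coprime_dvd_right (Subgroup.card_dvd_of_le (cc_le ha hh)))
    (Or.inl (Group.isSolvable_of_comm fun x y => mul_comm' x y)) inf_le_left hN hx (fun b hb => by
      refine ⟨(cc a h).mul_mem ((Subgroup.mem_normalizer_iff.mp (zpowers_le_normalizer_cc a h hb) x).mp hx)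
        ((cc a h).inv_mem hx), ?_⟩
      obtain ⟨k, rfl⟩ := Subgroup.mem_zpowers_iff.mp hb
      have h1 : Commute (f a ^ k) (f x) := (commute_of_mem_centralizer hyc).zpow_left k
      show f (a ^ k * x * (a ^ k)⁻¹ * x⁻¹) = 1
      rw [map_mul, map_mul, map_mul, map_inv, map_inv, map_zpow, h1.eq]
      group)
  exact ⟨c, inf_le_dd hh hc, by
    have : f (c * x⁻¹) = 1 := hcx.2
    rwa [map_mul, map_inv, mul_inv_eq_one] at this⟩

end Cfsg.Agent.FlavellGen
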