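import Cfsg.Agent.Lib.FlavellGen.Step
import Cfsg.Agent.Lib.Solvable.Basic

/-!
# Flavell: the theorem

* `Setup.of_central`, `Setup.of_noncentral`
* `fix_le_dd` : `K` a solvable `p'`-group normalised by `a` of odd prime order `p`: the fixed points of
  `[K, a]` are generated by those of the `[h, a]`, `h ∈ K`.
-/

set_option autoImplicit false
set_option linter.style.haveILetI false

open scoped Pointwise commutatorElement IsMulCommutative

namespace Cfsg.Agent.FlavellGen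

variable {G : Type*} [Group G] [Finite G] {a : G} {K : Subgroup G} {p : ℕ}

theorem Setup.ddK (S : Setup a K p) :
    dd a K ≤ K ⊓ Subgroup.centralizer (Subgroup.zpowers a : Set G) := dd_le S.ha

/-- `dd a K` contains the commutators of `C_K(a)` once it covers it up to an abelian subgroup. -/
theorem Setup.derived_fix_le (S : Setup a K p) {V : Subgroup G} (hV : V.Normal) (hVK : V ≤ K)
    (hV0 : V ≠ ⊥) [IsMulCommutative V] :
    ⁅K ⊓ Subgroup.centralizer (Subgroup.zpowers a : Set G),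
      K ⊓ Subgroup.centralizer (Subgroup.zpowers a : Set G)⁆ ≤ dd a K := by
  set C := K ⊓ Subgroup.centralizer (Subgroup.zpowers a : Set G)
  have hTN : C ⊓ V ≤ Subgroup.normalizer (dd a K : Set G) := fun c hc =>
    Coprime.mem_normalizer_of_forall fun x hx => dd_conj hc.1.1 (commute_of_mem_centralizer hc.1.2) hx
  have hle : C ≤ dd a K ⊔ (C ⊓ V) := fun x hx => by
    obtain ⟨d, hd, w, hw, rfl⟩ :=
      Subgroup.mem_sup_of_normal_right.mp (S.ihQuot V hV hVK hV0 hx)
    exact Subgroup.mul_mem_sup hd ⟨by simpa using C.mul_mem (C.inv_mem (S.ddK hd)) hx, hw⟩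
  refine (Subgroup.commutator_mono hle hle).trans ((commutator_sup_le hTN).trans (sup_le le_rfl ?_))
  refine le_trans (Subgroup.commutator_mono inf_le_right inf_le_right) ?_
  rw [Subgroup.commutator_eq_bot_iff_le_centralizer.mpr
    (Subgroup.le_centralizer_iff_isMulCommutative.mpr (inferInstance : IsMulCommutative V))]
  exact bot_le

/-- It suffices to treat `C_V(a)`. -/
theorem Setup.of_fix_le (S : Setup a K p) {V : Subgroup G} (hV : V.Normal) (hVK : V ≤ K) (hV0 : V ≠ ⊥)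
    (h : V ⊓ Subgroup.centralizer (Subgroup.zpowers a : Set G) ≤ dd a K) :
    K ⊓ Subgroup.centralizer (Subgroup.zpowers a : Set G) ≤ dd a K := by
  intro x hx
  obtain ⟨d, hd, w, hw, rfl⟩ :=
    Subgroup.mem_sup_of_normal_right.mp (S.ihQuot V hV hVK hV0 hx)
  refine (dd a K).mul_mem hd (h ⟨hw, ?_⟩)
  simpa using (Subgroup.mul_mem _ (Subgroup.inv_mem _ (S.ddK hd).2) hx.2)

/-- The step when `K` has a central normal `r`-subgroup and is not an `r`-group. -/
theorem Setup.of_central (S : Setup a K p) {r : ℕ} [Fact r.Prime] {V : Subgroup G} (hV : V.Normal)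
    (hVK : V ≤ K) (hV0 : V ≠ ⊥) (hVr : IsPGroup r V) (hnr : ¬ IsPGroup r K)
    (hcen : ∀ v ∈ V, ∀ k ∈ K, k * v = v * k) :
    K ⊓ Subgroup.centralizer (Subgroup.zpowers a : Set G) ≤ dd a K := by
  haveI : IsMulCommutative V := ⟨⟨fun x y => Subtype.ext (hcen y y.2 x (hVK x.2))⟩⟩
  refine S.of_fix_le hV hVK hV0 ?_
  rintro v ⟨hv, hvC⟩
  set A := Subgroup.zpowers a
  obtain ⟨P, hPA⟩ := Coprime.exists_invariant_sylow S.hAK S.hcop (Or.inl (hAsol a)) r
  set Q : Subgroup G := (P : Subgroup K).map K.subtype with hQ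
  have hQK : Q ≤ K := Subgroup.map_subtype_le _
  have hQlt : Q < K := lt_of_le_of_ne hQK fun h => hnr (h ▸ P.2.map _)
  -- transfer
  have hVP : V.subgroupOf K ≤ (P : Subgroup K) := by
    haveI : (V.subgroupOf K).Normal := hV.comap K.subtype
    have h1 : IsPGroup r (V.subgroupOf K) := hVr.comap_of_injective K.subtype K.subtype_injective
    exact (Cores.le_pCore inferInstance h1).trans (Cores.pCore_le_sylow P)
  have hvK' : (⟨v, hVK hv⟩ : K) ∈ _root_.commutator K := by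
    have h1 := S.fix_le_derived ⟨hVK hv, hvC⟩
    have hmap : (_root_.commutator K).map K.subtype = ⁅K, K⁆ := by
      rw [_root_.commutator_def, Subgroup.map_commutator, ← MonoidHom.range_eq_map,
        Subgroup.range_subtype]
    obtain ⟨w, hw, hwy⟩ := hmap.ge h1
    rwa [← Subtype.ext (show (w : G) = ((⟨v, hVK hv⟩ : K) : G) from hwy)]
  have hvS := mem_derived_of_central P (hVP (show (⟨v, hVK hv⟩ : K) ∈ V.subgroupOf K from hv))
    (Subgroup.mem_center_iff.mpr fun k => Subtype.ext (hcen v hv k k.2)) hvK'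
  have hvQ : v ∈ ⁅Q, Q⁆ := by
    have := Subgroup.mem_map_of_mem K.subtype hvS
    rwa [Subgroup.map_commutator] at this
  have hcopQ : (Nat.card A).Coprime (Nat.card Q) :=
    S.hcop.coprime_dvd_right (Subgroup.card_dvd_of_le hQK)
  have hdec := Coprime.commutator_sup_centralizer hPA hcopQ (Or.inl (hAsol a))
  have hCQ : Q ⊓ Subgroup.centralizer (A : Set G) ≤ Subgroup.normalizer ((⁅Q, A⁆ : Subgroup G) : Set G) :=
    inf_le_left.trans (Cores.commutator_normalizer_left Q A)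
  rw [← hdec] at hvQ
  obtain ⟨n, hn, c, hc, hnc⟩ := (Coprime.mem_sup_iff (N := ⁅Q, A⁆)
    (H := ⁅Q ⊓ Subgroup.centralizer (A : Set G), Q ⊓ Subgroup.centralizer (A : Set G)⁆)
    ((Subgroup.commutator_le_self _).trans hCQ)).mp (commutator_sup_le hCQ hvQ)
  have hcd : c ∈ dd a K := S.derived_fix_le hV hVK hV0
    (Subgroup.commutator_mono (inf_le_inf_right _ hQK) (inf_le_inf_right _ hQK) hc)
  have hnC : n ∈ Subgroup.centralizer (A : Set G) := by
    rw [show n = v * c⁻¹ by rw [← hnc]; group]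
    exact Subgroup.mul_mem _ hvC (Subgroup.inv_mem _ (S.ddK hcd).2)
  rw [← hnc]
  exact (dd a K).mul_mem (S.ihSub Q hQlt hPA ⟨hnC, hn⟩) hcd

/-- Orders of products with a normal subgroup meeting trivially. -/
theorem card_sup_of_inf {V H : Subgroup G} [V.Normal] (h : V ⊓ H = ⊥) :
    Nat.card (V ⊔ H : Subgroup G) = Nat.card V * Nat.card H := by
  have hN : H ≤ Subgroup.normalizer (V : Set G) := by rw [Subgroup.normalizer_eq_top]; exact le_top
  rw [← Nat.card_prod]
  refine (Nat.card_congr (Equiv.ofBijective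
    (fun x : V × H => (⟨x.1 * x.2, Subgroup.mul_mem_sup x.1.2 x.2.2⟩ : (V ⊔ H : Subgroup G)))
    ⟨?_, ?_⟩)).symm
  · intro x y hxy
    exact Subgroup.mul_injective_of_disjoint (disjoint_iff.mpr h) (congrArg Subtype.val hxy)
  · rintro ⟨x, hx⟩
    obtain ⟨n, hn, m, hm, rfl⟩ := (Coprime.mem_sup_iff hN).1 hx
    exact ⟨(⟨n, hn⟩, ⟨m, hm⟩), rfl⟩

/-- The step when `K` has a non-central minimal normal subgroup. -/
theorem Setup.of_noncentral (S : Setup a K p) {r : ℕ} [Fact r.Prime] {V : Subgroup G} (hV : V.Normal)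
    (hVK : V ≤ K) (hV0 : V ≠ ⊥) (hVr : IsPGroup r V) (hnr : ¬ IsPGroup r K) [IsMulCommutative V]
    (hmin : ∀ W : Subgroup G, W.Normal → W ≤ V → W = ⊥ ∨ W = V)
    (hnc : ¬ ∀ v ∈ V, ∀ k ∈ K, k * v = v * k) :
    K ⊓ Subgroup.centralizer (Subgroup.zpowers a : Set G) ≤ dd a K := by
  haveI := S.normal
  set A := Subgroup.zpowers a with hA
  set C := K ⊓ Subgroup.centralizer (A : Set G) with hC
  have hAV : A ≤ Subgroup.normalizer (V : Set G) := by rw [Subgroup.normalizer_eq_top]; exact le_top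
  have hcopV : (Nat.card A).Coprime (Nat.card V) :=
    S.hcop.coprime_dvd_right (Subgroup.card_dvd_of_le hVK)
  have hcomm : ∀ {x y : G}, x ∈ V → y ∈ V → x * y = y * x := fun hx hy =>
    congrArg Subtype.val (mul_comm' (⟨_, hx⟩ : V) ⟨_, hy⟩)
  have hKa : ∀ {b k : G}, b ∈ A → k ∈ K → b * k * b⁻¹ ∈ K := fun {b k} hb hk =>
    (Subgroup.mem_normalizer_iff.mp (S.hAK hb) k).mp hk
  set V0 := (dd a K ⊓ V) ⊔ ⁅V, A⁆ with hV0def
  have hVA : ⁅V, A⁆ ≤ V := Subgroup.le_normalizer_iff_commutator_le_left.1 hAV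
  have hV0V : V0 ≤ V := sup_le inf_le_right hVA
  refine S.of_fix_le hV hVK hV0 ?_
  by_contra hgoal
  have hne : V0 ≠ V := by
    intro he
    refine hgoal ?_
    rintro v ⟨hv, hvC⟩
    have hd : dd a K ⊓ V ≤ Subgroup.normalizer ((⁅V, A⁆ : Subgroup G) : Set G) :=
      inf_le_right.trans (Cores.commutator_normalizer_left V A)
    have hv' : v ∈ ⁅V, A⁆ ⊔ (dd a K ⊓ V) := by rw [sup_comm, ← hV0def, he]; exact hv
    obtain ⟨w, hw, d, hd', rfl⟩ := (Coprime.mem_sup_iff hd).mp hv'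
    have hwC : w ∈ Subgroup.centralizer (A : Set G) := by
      simpa using Subgroup.mul_mem _ hvC (Subgroup.inv_mem _ (S.ddK hd'.1).2)
    have : w ∈ (V ⊓ Subgroup.centralizer (A : Set G)) ⊓ ⁅V, A⁆ := ⟨⟨hVA hw, hwC⟩, hw⟩
    rw [Coprime.abelian_inf_eq_bot hAV hcopV, Subgroup.mem_bot] at this
    rw [this, one_mul]; exact hd'.1
  -- the stabiliser of `V / V0`
  let St : Subgroup G :=
    { carrier := {g | ∀ v ∈ V, g * v * g⁻¹ * v⁻¹ ∈ V0}
      mul_mem' := fun {g h} hg hh v hv => by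
        have hv' : h * v * h⁻¹ ∈ V := hV.conj_mem v hv h
        have := V0.mul_mem (hg _ hv') (hh v hv)
        group at this ⊢
        exact this
      one_mem' := fun v _ => by simp
      inv_mem' := fun {g} hg v hv => by
        have hv' : g⁻¹ * v * g⁻¹⁻¹ ∈ V := hV.conj_mem v hv g⁻¹
        have := V0.inv_mem (hg _ hv')
        group at this ⊢
        exact this }
  have memSt : ∀ {g : G}, g ∈ St ↔ ∀ v ∈ V, g * v * g⁻¹ * v⁻¹ ∈ V0 := fun {g} => Iff.rfl
  have hASt : A ≤ St := fun b hb v hv => Subgroup.mem_sup_right (by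
    rw [Subgroup.commutator_comm]
    exact Subgroup.commutator_mem_commutator hb hv)
  have hVSt : V ≤ St := fun g hg v hv => by
    rw [hcomm hg hv]; simp
  have hDC := S.derived_fix_le hV hVK hV0
  have hCSt : C ≤ St := by
    intro c hc v hv
    have hv' : v ∈ (V ⊓ Subgroup.centralizer (A : Set G)) ⊔ ⁅V, A⁆ := by
      rw [Coprime.abelian_sup_eq hAV hcopV]; exact hv
    obtain ⟨t, ht, w, hw, rfl⟩ := (Coprime.mem_sup_iff (N := V ⊓ Subgroup.centralizer (A : Set G))
      (H := ⁅V, A⁆) (fun w hw => Coprime.mem_normalizer_of_forall fun t ht => by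
        rwa [hcomm (hVA hw) ht.1, mul_inv_cancel_right])).mp hv'
    have hcw : c * w * c⁻¹ ∈ ⁅V, A⁆ := by
      have h1 : Subgroup.zpowers c ≤ Subgroup.normalizer ((⁅V, A⁆ : Subgroup G) : Set G) :=
        Coprime.le_normalizer_commutator (by rw [Subgroup.normalizer_eq_top]; exact le_top)
          (Subgroup.zpowers_le.mpr (Subgroup.centralizer_le_normalizer _ hc.2))
      exact (Subgroup.mem_normalizer_iff.mp (h1 (Subgroup.mem_zpowers c)) w).mp hw
    have h2 : ⁅c, t⁆ ∈ dd a K ⊓ V := ⟨hDC (Subgroup.commutator_mem_commutator hc ⟨hVK ht.1, ht.2⟩), by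
      rw [commutatorElement_def]
      exact V.mul_mem (hV.conj_mem t ht.1 c) (V.inv_mem ht.1)⟩
    have e : c * (t * w) * c⁻¹ * (t * w)⁻¹ = ⁅c, t⁆ * (t * ((c * w * c⁻¹) * w⁻¹) * t⁻¹) := by
      simp only [commutatorElement_def]; group
    rw [e, hcomm ht.1 (V.mul_mem (hV.conj_mem w (hVA hw) c) (V.inv_mem (hVA hw))),
      mul_inv_cancel_right]
    exact Subgroup.mul_mem_sup h2 (Subgroup.mul_mem _ hcw (Subgroup.inv_mem _ hw))
  have hMSt : ∀ M : Subgroup G, M ≤ K → A ≤ Subgroup.normalizer (M : Set G) → V ⊔ M ≠ K → M ≤ St := by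
    intro M hMK hAM hVM
    have hcopM : (Nat.card A).Coprime (Nat.card M) :=
      S.hcop.coprime_dvd_right (Subgroup.card_dvd_of_le hMK)
    rw [← Coprime.commutator_sup_centralizer hAM hcopM (Or.inl (hAsol a))]
    refine sup_le ?_ ((inf_le_inf_right _ hMK).trans hCSt)
    set L := V ⊔ M
    have hLK : L < K := lt_of_le_of_ne (sup_le hVK hMK) hVM
    have hAL : A ≤ Subgroup.normalizer (L : Set G) := by
      intro b hb
      refine Coprime.mem_normalizer_of_forall fun y hy => ?_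
      obtain ⟨s, hs, t, ht, rfl⟩ := Subgroup.mem_sup_of_normal_left.mp hy
      rw [show b * (s * t) * b⁻¹ = (b * s * b⁻¹) * (b * t * b⁻¹) by group]
      exact Subgroup.mul_mem_sup (hV.conj_mem s hs b)
        ((Subgroup.mem_normalizer_iff.mp (hAM hb) t).mp ht)
    intro u hu v hv
    set W := V ⊓ ⁅L, A⁆
    have hu' : u ∈ ⁅L, A⁆ := Subgroup.commutator_mono le_sup_right le_rfl hu
    have hy : u * v * u⁻¹ * v⁻¹ ∈ W := ⟨V.mul_mem (hV.conj_mem v hv u) (V.inv_mem hv), by
      rw [show u * v * u⁻¹ * v⁻¹ = u * (v * u⁻¹ * v⁻¹) by group]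
      exact Subgroup.mul_mem _ hu' ((Subgroup.mem_normalizer_iff.mp
        (Cores.commutator_normalizer_left L A (Subgroup.mem_sup_left hv)) u⁻¹).mp
        (Subgroup.inv_mem _ hu'))⟩
    haveI : IsMulCommutative W := ⟨⟨fun x y => Subtype.ext (hcomm x.2.1 y.2.1)⟩⟩
    have hWA : A ≤ Subgroup.normalizer (W : Set G) := fun b hb =>
      Coprime.mem_normalizer_of_forall fun y hy => ⟨hV.conj_mem y hy.1 b,
        (Subgroup.mem_normalizer_iff.mp (Cores.commutator_normalizer_right L A hb) y).mp hy.2⟩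
    rw [← Coprime.abelian_sup_eq hWA (hcopV.coprime_dvd_right (Subgroup.card_dvd_of_le inf_le_left))] at hy
    refine sup_le_sup ?_ (Subgroup.commutator_mono inf_le_left le_rfl) hy
    exact fun t ht => ⟨S.ihSub L hLK hAL ⟨ht.2, ht.1.2⟩, ht.1.1⟩
  have hnorm : ∀ {W : Subgroup G}, K ≤ Subgroup.normalizer (W : Set G) →
      A ≤ Subgroup.normalizer (W : Set G) → W.Normal := fun hK hA' =>
    Subgroup.normalizer_eq_top_iff.mp (top_le_iff.mp (S.top ▸ sup_le hK hA'))
  have hKSt : ¬ K ≤ St := by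
    intro h
    have h1 : ⁅V, K⁆ ≤ V0 := by
      rw [Subgroup.commutator_le]
      intro v hv k hk
      rw [← commutatorElement_inv]
      exact V0.inv_mem (h hk v hv)
    rcases hmin ⁅V, K⁆ inferInstance (h1.trans hV0V) with h2 | h2
    · exact hnc fun v hv k hk => Subgroup.mem_centralizer_iff.mp
        (Subgroup.commutator_eq_bot_iff_le_centralizer.mp h2 hv) k hk
    · exact hne (le_antisymm hV0V (h2 ▸ h1))
  obtain ⟨q, Q, hq, hQK, hQq, hQA, hQSt⟩ : ∃ (q : ℕ) (Q : Subgroup G), q.Prime ∧ Q ≤ K ∧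
      IsPGroup q Q ∧ A ≤ Subgroup.normalizer (Q : Set G) ∧ ¬ Q ≤ St := by
    by_contra h
    push Not at h
    exact hKSt (Coprime.le_of_invariant_sylow_le S.hAK S.hcop (Or.inl (hAsol a))
      fun q Q hq hQK hQq hQA => h q Q hq hQK hQq hQA)
  haveI := Fact.mk hq
  have hVQ : V ⊔ Q = K := by_contra fun h => hQSt (hMSt Q hQK hQA h)
  have hqr : q ≠ r := by
    rintro rfl
    exact hnr (hVQ ▸ IsPGroup.to_sup_of_normal_left' hVr hQq
      (by rw [Subgroup.normalizer_eq_top]; exact le_top))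
  have hcoVQ : (Nat.card Q).Coprime (Nat.card V) := by
    obtain ⟨i, hi⟩ := IsPGroup.iff_card.mp hQq
    obtain ⟨j, hj⟩ := IsPGroup.iff_card.mp hVr
    rw [hi, hj]
    exact Nat.Coprime.pow _ _ ((Nat.coprime_primes hq (Fact.out : r.Prime)).mpr hqr)
  have hVQ0 : V ⊓ Q = ⊥ := by rw [inf_comm]; exact Coprime.inf_eq_bot hcoVQ
  have hcardK : Nat.card K = Nat.card V * Nat.card Q := by rw [← hVQ]; exact card_sup_of_inf hVQ0
  have hprop : ∀ M : Subgroup G, M < Q → A ≤ Subgroup.normalizer (M : Set G) → M ≤ St := fun M hM hAM =>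
    hMSt M (hM.le.trans hQK) hAM fun h => by
      have h1 : Nat.card K = Nat.card V * Nat.card M := by
        rw [← h]; exact card_sup_of_inf (le_bot_iff.mp (hVQ0 ▸ inf_le_inf_left V hM.le))
      exact hM.ne (Subgroup.eq_of_le_of_card_ge hM.le
        (Nat.eq_of_mul_eq_mul_left Nat.card_pos (hcardK.symm.trans h1)).le)
  set S0 := Q ⊓ St with hS0
  have hS0A : A ≤ Subgroup.normalizer (S0 : Set G) := fun b hb =>
    Coprime.mem_normalizer_of_forall fun y hy => ⟨(Subgroup.mem_normalizer_iff.mp (hQA hb) y).mp hy.1,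
      St.mul_mem (St.mul_mem (hASt hb) hy.2) (St.inv_mem (hASt hb))⟩
  have hQlt : S0 < Q := lt_of_le_of_ne inf_le_left fun h => hQSt (inf_eq_left.mp h)
  haveI := hQq.isNilpotent
  have hS0n : Q ≤ Subgroup.normalizer (S0 : Set G) := by
    by_contra h
    set M := Q ⊓ Subgroup.normalizer (S0 : Set G)
    have hMQ : M < Q := lt_of_le_of_ne inf_le_left fun he => h (inf_eq_left.mp he)
    have hMA : A ≤ Subgroup.normalizer (M : Set G) := fun b hb =>
      Coprime.mem_normalizer_of_forall fun y hy => ⟨(Subgroup.mem_normalizer_iff.mp (hQA hb) y).mp hy.1,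
        Subgroup.mul_mem _ (Subgroup.mul_mem _ (hS0A hb) hy.2) (Subgroup.inv_mem _ (hS0A hb))⟩
    have hMS0 : M ≤ S0 := le_inf inf_le_left (hprop M hMQ hMA)
    have hlt : S0.subgroupOf Q < ⊤ := lt_top_iff_ne_top.mpr fun e =>
      hQlt.not_ge (Subgroup.subgroupOf_eq_top.mp e)
    obtain ⟨⟨y, hy⟩, hy1, hy2⟩ := SetLike.exists_of_lt (Group.normalizerCondition_of_isNilpotent _ hlt)
    rw [← Subgroup.subgroupOf_normalizer_eq inf_le_left] at hy1
    exact hy2 (hMS0 ⟨hy, hy1⟩)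
  have hS0V : ⁅V, S0⁆ = ⊥ := by
    have h1 : ⁅V, S0⁆ ≤ V0 := by
      rw [Subgroup.commutator_le]
      intro v hv s hs
      rw [← commutatorElement_inv]
      exact V0.inv_mem (hs.2 v hv)
    have hN : (⁅V, S0⁆).Normal := by
      have hVn : ∀ X : Subgroup G, X ≤ Subgroup.normalizer (V : Set G) := fun X => by
        rw [Subgroup.normalizer_eq_top]; exact le_top
      refine hnorm ?_ (Coprime.le_normalizer_commutator (hVn A) hS0A)
      conv_lhs => rw [← hVQ]
      exact sup_le (Cores.commutator_normalizer_left V S0)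
        (Coprime.le_normalizer_commutator (hVn Q) hS0n)
    rcases hmin _ hN (h1.trans hV0V) with h | h
    · exact h
    · exact absurd (le_antisymm hV0V (h ▸ h1)) hne
  have hS0cen : ∀ {s v : G}, s ∈ S0 → v ∈ V → s * v = v * s := fun hs hv =>
    Subgroup.mem_centralizer_iff.mp (Subgroup.commutator_eq_bot_iff_le_centralizer.mp hS0V hv) _ hs
  have hQab : ⁅Q, Q⁆ ≤ S0 := by
    refine le_inf (Subgroup.commutator_le_self Q) (hprop _ ?_ (Coprime.le_normalizer_commutator hQA hQA))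
    refine lt_of_le_of_ne (Subgroup.commutator_le_self Q) fun he => hQSt ?_
    have hbot : Q = ⊥ := Coprime.eq_bot_of_le_commutator le_rfl (inferInstance : Group.IsNilpotent Q) he.ge
    rw [hbot]; exact bot_le
  have habel : ∀ {g h v : G}, g ∈ Q → h ∈ Q → v ∈ V →
      g * (h * v * h⁻¹) * g⁻¹ = h * (g * v * g⁻¹) * h⁻¹ := fun {g h v} hg hh hv => by
    have h1 := hS0cen (hQab (Subgroup.commutator_mem_commutator hg hh)) (hV.conj_mem v hv (h * g))
    calc g * (h * v * h⁻¹) * g⁻¹ = ⁅g, h⁆ * ((h * g) * v * (h * g)⁻¹) * ⁅g, h⁆⁻¹ := by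
          simp only [commutatorElement_def]; group
      _ = (h * g) * v * (h * g)⁻¹ := by rw [h1, mul_inv_cancel_right]
      _ = h * (g * v * g⁻¹) * h⁻¹ := by group
  have hfixQ : V ⊓ Subgroup.centralizer (Q : Set G) = ⊥ := by
    set X := V ⊓ Subgroup.centralizer (Q : Set G) with hX
    have hconj : ∀ g : G, g ∈ Subgroup.normalizer (Q : Set G) → g ∈ Subgroup.normalizer (X : Set G) := by
      intro g hg
      refine Coprime.mem_normalizer_of_forall fun x hx => ⟨hV.conj_mem x hx.1 g, fun u hu => ?_⟩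
      have h1 := hx.2 (g⁻¹ * u * g) ((Subgroup.mem_normalizer_iff''.mp hg u).mp hu)
      calc u * (g * x * g⁻¹) = g * ((g⁻¹ * u * g) * x) * g⁻¹ := by group
        _ = g * (x * (g⁻¹ * u * g)) * g⁻¹ := by rw [h1]
        _ = g * x * g⁻¹ * u := by group
    have hN : X.Normal := by
      refine hnorm ?_ fun b hb => hconj b (hQA hb)
      conv_lhs => rw [← hVQ]
      refine sup_le (fun g hg => Coprime.mem_normalizer_of_forall fun x hx => ?_)
        fun g hg => hconj g (Subgroup.le_normalizer hg)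
      rwa [hcomm hg hx.1, mul_inv_cancel_right]
    rcases hmin X hN inf_le_left with h | h
    · exact h
    · refine absurd (fun v hv k hk => ?_) hnc
      rw [← hVQ] at hk
      obtain ⟨w, hw, u, hu, rfl⟩ := Subgroup.mem_sup_of_normal_left.mp hk
      have h1 : u * v = v * u := (h.ge hv).2 u hu
      rw [mul_assoc, h1, ← mul_assoc, hcomm hw hv, mul_assoc]
  have hcoset : ∀ b ∈ Q, a * b * a⁻¹ * b⁻¹ ∈ S0 → b ∈ S0 := by
    intro b hb h
    have hS0S : ∀ j : ℕ, a ^ j * b * (a ^ j)⁻¹ * b⁻¹ ∈ S0 := by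
      intro j
      induction j with
      | zero => simp
      | succ j ih =>
        rw [show a ^ (j + 1) * b * (a ^ (j + 1))⁻¹ * b⁻¹ =
          (a * (a ^ j * b * (a ^ j)⁻¹ * b⁻¹) * a⁻¹) * (a * b * a⁻¹ * b⁻¹) by rw [pow_succ']; group]
        exact S0.mul_mem ((Subgroup.mem_normalizer_iff.mp (hS0A (Subgroup.mem_zpowers a)) _).mp ih) h
    obtain ⟨c, hc, hcb⟩ := Coprime.exists_mem_centralizer_of_coset hQA
      (S.hcop.coprime_dvd_right (Subgroup.card_dvd_of_le hQK)) (Or.inl (hAsol a)) inf_le_left hS0A hb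
      (fun x hx => by
        obtain ⟨j, rfl⟩ := mem_powers_iff_mem_zpowers.mpr hx
        exact hS0S j)
    refine ⟨hb, ?_⟩
    rw [show b = (c * b⁻¹)⁻¹ * c by group]
    exact St.mul_mem (St.inv_mem hcb.2) (hCSt ⟨hQK hc.1, hc.2⟩)
  have hcoset' : ∀ i, ¬ p ∣ i → ∀ b ∈ Q, a ^ i * b * (a ^ i)⁻¹ * b⁻¹ ∈ S0 → b ∈ S0 := by
    intro i hi b hb h
    refine hcoset b hb ?_
    obtain ⟨j, hj⟩ := mem_powers_iff_mem_zpowers.mpr
      (show a ∈ Subgroup.zpowers (a ^ i) by rw [S.zpowers_pow hi]; exact Subgroup.mem_zpowers a)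
    have hai : a ^ i ∈ Subgroup.normalizer (S0 : Set G) := Subgroup.pow_mem _ (hS0A (Subgroup.mem_zpowers a)) i
    rw [← (show (a ^ i) ^ j = a from hj)]
    clear hj
    induction j with
    | zero => simp
    | succ j ih =>
      rw [show (a ^ i) ^ (j + 1) * b * ((a ^ i) ^ (j + 1))⁻¹ * b⁻¹ =
        (a ^ i * ((a ^ i) ^ j * b * ((a ^ i) ^ j)⁻¹ * b⁻¹) * (a ^ i)⁻¹) * (a ^ i * b * (a ^ i)⁻¹ * b⁻¹) by
          rw [pow_succ']; group]
      exact S0.mul_mem ((Subgroup.mem_normalizer_iff.mp hai _).mp ih) h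
  -- `V = C_V(a) · b C_V(a) b⁻¹` outside `S0`
  have hR : ∀ b ∈ Q, b ∉ S0 → ∀ x ∈ V, ∃ c ∈ V ⊓ Subgroup.centralizer (A : Set G),
      ∃ d ∈ V ⊓ Subgroup.centralizer (A : Set G), x = c * (b * d * b⁻¹) := by
    intro b hb hbS x hx
    set a0 := b⁻¹ with ha0
    have ha0Q : a0 ∈ Q := Q.inv_mem hb
    have hcc0 : cc a a0 = Q := by
      by_contra hne'
      have h1 : cc a a0 ≤ St := hprop _
        (lt_of_le_of_ne (cc_le (hQA (Subgroup.mem_zpowers a)) ha0Q) hne') (zpowers_le_normalizer_cc a a0)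
      have hmem : b * a * b⁻¹ * a⁻¹ ∈ S0 := by
        have h2 := gen_one_mem_cc a a0
        have h3 : a0⁻¹ * a * a0 * a⁻¹ ∈ S0 := ⟨cc_le (hQA (Subgroup.mem_zpowers a)) ha0Q h2, h1 h2⟩
        rwa [ha0, inv_inv] at h3
      refine hbS (hcoset b hb ?_)
      have := S0.inv_mem hmem
      group at this ⊢
      exact this
    set h := a0 * x with hh
    have hhK : h ∈ K := K.mul_mem (hQK ha0Q) (hVK hx)
    set R := cc a h with hRdef
    have hRK : R ≤ K := cc_le S.ha hhK
    have hRA : A ≤ Subgroup.normalizer (R : Set G) := zpowers_le_normalizer_cc a h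
    have hRV : V ⊔ R = K := by
      refine le_antisymm (sup_le hVK hRK) ?_
      conv_lhs => rw [← hVQ]
      refine sup_le le_sup_left ?_
      rw [← hcc0, cc, Subgroup.closure_le]
      rintro _ ⟨i, rfl⟩
      show a0⁻¹ * a ^ i * a0 * (a ^ i)⁻¹ ∈ V ⊔ R
      rw [show a0⁻¹ * a ^ i * a0 * (a ^ i)⁻¹ =
        x * (h⁻¹ * a ^ i * h * (a ^ i)⁻¹) * (a ^ i * x⁻¹ * (a ^ i)⁻¹) by rw [hh]; group]
      exact Subgroup.mul_mem _ (Subgroup.mul_mem_sup hx (gen_mem_cc a h i))
        (Subgroup.mem_sup_left (hV.conj_mem _ (V.inv_mem hx) _))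
    have hRn : (V ⊓ R).Normal := by
      refine hnorm ?_ fun b hb => Coprime.mem_normalizer_of_forall fun y hy =>
        ⟨hV.conj_mem y hy.1 b, (Subgroup.mem_normalizer_iff.mp (hRA hb) y).mp hy.2⟩
      conv_lhs => rw [← hRV]
      refine sup_le (fun g hg => Coprime.mem_normalizer_of_forall fun y hy => ?_)
        fun g hg => Coprime.mem_normalizer_of_forall fun y hy => ⟨hV.conj_mem y hy.1 g,
          R.mul_mem (R.mul_mem hg hy.2) (R.inv_mem hg)⟩
      rwa [hcomm hg hy.1, mul_inv_cancel_right]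
    have hRV0 : V ⊓ R = ⊥ := by
      rcases hmin _ hRn inf_le_left with h' | h'
      · exact h'
      · exact absurd ((inf_le_inf_right _ (inf_eq_left.mp h')).trans (inf_le_dd hhK)) hgoal
    have hcardR : Nat.card R = Nat.card Q := by
      have h1 : Nat.card K = Nat.card V * Nat.card R := by rw [← hRV]; exact card_sup_of_inf hRV0
      exact Nat.eq_of_mul_eq_mul_left Nat.card_pos (h1.symm.trans hcardK)
    obtain ⟨n, hn, hnR⟩ := Coprime.exists_conj_eq_of_le_sup (N := V) (H := Q) (L := R)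
      (by rw [Subgroup.normalizer_eq_top]; exact le_top) hcoVQ
      (Or.inr (Group.isSolvable_of_comm fun x y => mul_comm' x y)) (hVQ.symm ▸ hRK) hcardR
    obtain ⟨c, hc, hcR⟩ := Coprime.exists_mem_centralizer_conj hAV hcopV (Or.inl (hAsol a)) hn hQA
      (by rw [hnR]; exact hRA)
    rw [hnR] at hcR
    have hca : Commute a c := commute_of_mem_centralizer hc.2
    set u := a0⁻¹ * a * a0 * a⁻¹ with hu
    have huQ : u ∈ Q := hcc0 ▸ gen_one_mem_cc a a0
    set u' := c⁻¹ * (h⁻¹ * a * h * a⁻¹) * c with hu'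
    have hu'Q : u' ∈ Q := Coprime.mem_conj.mp (hcR ▸ gen_one_mem_cc a h)
    have huu : u⁻¹ * u' ∈ V := by
      have hax : a * x * a⁻¹ ∈ V := hV.conj_mem x hx a
      rw [show u⁻¹ * u' =
        (u⁻¹ * (c⁻¹ * x⁻¹) * u⁻¹⁻¹) * ((a * x * a⁻¹) * c) by rw [hu, hu', hh]; group]
      exact V.mul_mem (hV.conj_mem _ (V.mul_mem (V.inv_mem hc.1) (V.inv_mem hx)) _) (V.mul_mem hax hc.1)
    have hueq : u' = u := by
      have h1 : u⁻¹ * u' ∈ V ⊓ Q := ⟨huu, Q.mul_mem (Q.inv_mem huQ) hu'Q⟩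
      rw [hVQ0, Subgroup.mem_bot, inv_mul_eq_one] at h1
      exact h1.symm
    have hcomm' : Commute (a0⁻¹ * a * a0) (x * c) := by
      have h2 : x⁻¹ * (a0⁻¹ * a * a0) * x = c * (a0⁻¹ * a * a0) * c⁻¹ := by
        calc x⁻¹ * (a0⁻¹ * a * a0) * x = c * u' * c⁻¹ * a := by rw [hu', hh]; group
          _ = c * u * (c⁻¹ * a) := by rw [hueq]; group
          _ = c * u * (a * c⁻¹) := by rw [hca.inv_right.eq]
          _ = c * (a0⁻¹ * a * a0) * c⁻¹ := by rw [hu]; group
      show a0⁻¹ * a * a0 * (x * c) = x * c * (a0⁻¹ * a * a0)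
      calc a0⁻¹ * a * a0 * (x * c) = x * (x⁻¹ * (a0⁻¹ * a * a0) * x) * c := by group
        _ = x * (c * (a0⁻¹ * a * a0) * c⁻¹) * c := by rw [h2]
        _ = x * c * (a0⁻¹ * a * a0) := by group
    have hd : a0 * (x * c) * a0⁻¹ ∈ V ⊓ Subgroup.centralizer (A : Set G) := by
      refine ⟨hV.conj_mem _ (V.mul_mem hx hc.1) a0, mem_centralizer_of_commute ?_⟩
      show a * (a0 * (x * c) * a0⁻¹) = a0 * (x * c) * a0⁻¹ * a
      calc a * (a0 * (x * c) * a0⁻¹) = a0 * ((a0⁻¹ * a * a0) * (x * c)) * a0⁻¹ := by group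
        _ = a0 * ((x * c) * (a0⁻¹ * a * a0)) * a0⁻¹ := by rw [hcomm'.eq]
        _ = a0 * (x * c) * a0⁻¹ * a := by group
    refine ⟨c⁻¹, ⟨V.inv_mem hc.1, Subgroup.inv_mem _ hc.2⟩, _, hd, ?_⟩
    rw [show b * (a0 * (x * c) * a0⁻¹) * b⁻¹ = x * c by rw [ha0]; group, hcomm hx hc.1]
    group
  -- a maximal `B` with fixed points
  obtain ⟨B, ⟨hS0B, hBQ, hBfix⟩, hBmax⟩ := Set.Finite.exists_maximal
    (Set.toFinite {B : Subgroup G | S0 ≤ B ∧ B ≤ Q ∧ V ⊓ Subgroup.centralizer (B : Set G) ≠ ⊥})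
    ⟨S0, le_rfl, inf_le_left, fun h => hV0 (le_bot_iff.mp (h ▸ le_inf le_rfl
      (Subgroup.commutator_eq_bot_iff_le_centralizer.mp hS0V)))⟩
  have hBlt : B < Q := lt_of_le_of_ne hBQ fun h => hBfix (h ▸ hfixQ)
  have hBn : ∀ g ∈ Q, ∀ x ∈ B, g * x * g⁻¹ ∈ B := fun g hg x hx => by
    rw [show g * x * g⁻¹ = ⁅g, x⁆ * x by simp only [commutatorElement_def]; group]
    exact B.mul_mem (hS0B (hQab (Subgroup.commutator_mem_commutator hg (hBQ hx)))) hx
  have hfpf : ∀ g ∈ Q, g ∉ B → ∀ v ∈ V ⊓ Subgroup.centralizer (B : Set G), g * v = v * g → v = 1 := by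
    intro g hg hgB v hv hgv
    by_contra hv1
    refine hgB (hBmax ⟨hS0B.trans le_sup_left, sup_le hBQ (Subgroup.zpowers_le.mpr hg), fun h => hv1 ?_⟩
      le_sup_left (Subgroup.mem_sup_right (Subgroup.mem_zpowers g) : g ∈ B ⊔ Subgroup.zpowers g))
    have hvmem : v ∈ V ⊓ Subgroup.centralizer ((B ⊔ Subgroup.zpowers g : Subgroup G) : Set G) := by
      refine ⟨hv.1, fun y hy => ?_⟩
      have hle : B ⊔ Subgroup.zpowers g ≤ Subgroup.centralizer ({v} : Set G) := sup_le
        (fun y hy => Subgroup.mem_centralizer_singleton_iff.mpr (hv.2 y hy))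
        (Subgroup.zpowers_le.mpr (Subgroup.mem_centralizer_singleton_iff.mpr hgv))
      exact Subgroup.mem_centralizer_singleton_iff.mp (hle hy)
    rw [h, Subgroup.mem_bot] at hvmem
    exact hvmem
  have haV : ∀ {v : G}, v ∈ V ⊓ Subgroup.centralizer (A : Set G) → ∀ i : ℕ,
      (a ^ i)⁻¹ * v * a ^ i = v := fun {v} hv i => by
    rw [mul_assoc, ← ((commute_of_mem_centralizer hv.2).pow_left i).eq, inv_mul_cancel_left]
  have hQa : ∀ {b : G}, b ∈ Q → ∀ i : ℕ, (a ^ i)⁻¹ * b * a ^ i ∈ Q := fun hb i =>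
    (Subgroup.mem_normalizer_iff''.mp (hQA (Subgroup.pow_mem _ (Subgroup.mem_zpowers a) i)) _).mp hb
  have h1p : ¬ p ∣ 1 := S.prime.not_dvd_one
  have h2p : ¬ p ∣ 2 := fun h => S.odd ((Nat.prime_dvd_prime_iff_eq S.prime Nat.prime_two).mp h)
  by_cases hBinv : ∀ y ∈ B, a * y * a⁻¹ ∈ B
  · -- `B` is invariant
    have hBA : A ≤ Subgroup.normalizer (B : Set G) :=
      Subgroup.zpowers_le.mpr (Coprime.mem_normalizer_of_forall hBinv)
    have hBS0 : B ≤ S0 := le_inf hBQ (hprop B hBlt hBA)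
    have hVB : ∀ v ∈ V, v ∈ V ⊓ Subgroup.centralizer (B : Set G) := fun v hv =>
      ⟨hv, fun y hy => hS0cen (hBS0 hy) hv⟩
    obtain ⟨b, hb, hbS⟩ : ∃ b ∈ Q, b ∉ S0 := SetLike.exists_of_lt hQlt
    have hdiff : ∀ i, ¬ p ∣ i → b⁻¹ * ((a ^ i)⁻¹ * b * a ^ i) ∉ B := by
      intro i hi hmem
      refine hbS (hcoset' i hi b hb ?_)
      have h1 : a ^ i * (b⁻¹ * ((a ^ i)⁻¹ * b * a ^ i)) * (a ^ i)⁻¹ ∈ S0 :=
        (Subgroup.mem_normalizer_iff.mp
          (hS0A (Subgroup.pow_mem _ (Subgroup.mem_zpowers a) i)) _).mp (hBS0 hmem)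
      have h2 := S0.inv_mem h1
      have h3 := (Subgroup.mem_normalizer_iff.mp (hS0n hb) _).mp h2
      group at h3 ⊢
      exact h3
    refine hgoal fun c hc => ?_
    suffices hc1 : c = 1 by rw [hc1]; exact (dd a K).one_mem
    obtain ⟨c1, hc1, c2, hc2, hrel⟩ := hR b hb hbS _ (hV.conj_mem _ (hV.conj_mem c hc.1 b) b)
    have hreli : ∀ i : ℕ, ((a ^ i)⁻¹ * b * a ^ i) * (((a ^ i)⁻¹ * b * a ^ i) * c *
        ((a ^ i)⁻¹ * b * a ^ i)⁻¹) * ((a ^ i)⁻¹ * b * a ^ i)⁻¹ =
        c1 * (((a ^ i)⁻¹ * b * a ^ i) * c2 * ((a ^ i)⁻¹ * b * a ^ i)⁻¹) := fun i => by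
      conv_lhs => rw [← haV hc i]
      conv_rhs => rw [← haV hc1 i, ← haV hc2 i]
      have := congrArg (fun z => (a ^ i)⁻¹ * z * a ^ i) hrel
      group at this ⊢
      exact this
    have hz : ∀ i, ¬ p ∣ i →
        c2 = (b * c * b⁻¹) * (((a ^ i)⁻¹ * b * a ^ i) * c * ((a ^ i)⁻¹ * b * a ^ i)⁻¹) := by
      intro i hi
      set β := (a ^ i)⁻¹ * b * a ^ i with hβ
      have hβQ : β ∈ Q := hQa hb i
      let A0 : V →* V := (MulAut.conjNormal b : MulAut V).toMonoidHom
      let A1 : V →* V := (MulAut.conjNormal β : MulAut V).toMonoidHom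
      have hA0 : ∀ v : V, ((A0 v : V) : G) = b * v * b⁻¹ := fun v => MulAut.conjNormal_apply b v
      have hA1 : ∀ v : V, ((A1 v : V) : G) = β * v * β⁻¹ := fun v => MulAut.conjNormal_apply β v
      set γ : V := ⟨c, hc.1⟩
      set γ1 : V := ⟨c1, hc1.1⟩
      set γ2 : V := ⟨c2, hc2.1⟩
      have e0 : A0 (A0 γ) = γ1 * A0 γ2 :=
        Subtype.ext (by rw [Subgroup.coe_mul, hA0, hA0, hA0]; exact hrel)
      have e1 : A1 (A1 γ) = γ1 * A1 γ2 :=
        Subtype.ext (by rw [Subgroup.coe_mul, hA1, hA1, hA1]; exact hreli i)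
      have e2 : A0 (A1 γ) = A1 (A0 γ) :=
        Subtype.ext (by rw [hA0, hA1, hA1, hA0]; exact habel hb hβQ hc.1)
      set z : V := A0 γ * A1 γ * γ2⁻¹ with hzdef
      have e3 : A0 z = A1 z := by
        simp only [hzdef, map_mul, map_inv, e0, e1, e2]
        rw [mul_assoc, mul_comm (A1 (A0 γ)) _, ← mul_assoc, mul_assoc γ1 _ _, mul_inv_cancel,
          mul_one, mul_comm (A1 (A0 γ)) (γ1 * A1 γ2), mul_assoc γ1, mul_comm (A1 γ2), ← mul_assoc,
          mul_assoc _ (A1 γ2), mul_inv_cancel, mul_one]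
      have e3' : b * (z : G) * b⁻¹ = β * z * β⁻¹ := by rw [← hA0, ← hA1, e3]
      have hz1 : (z : G) = 1 := by
        refine hfpf (b⁻¹ * β) (Q.mul_mem (Q.inv_mem hb) hβQ) (hdiff i hi) _ (hVB _ z.2) ?_
        calc b⁻¹ * β * (z : G) = b⁻¹ * (β * z * β⁻¹) * β := by group
          _ = b⁻¹ * (b * z * b⁻¹) * β := by rw [e3']
          _ = (z : G) * (b⁻¹ * β) := by group
      rw [hzdef, Subgroup.coe_mul, Subgroup.coe_inv, mul_inv_eq_one, Subgroup.coe_mul, hA0, hA1] at hz1
      exact hz1.symm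
    have h12 := (hz 1 h1p).symm.trans (hz 2 h2p)
    rw [mul_right_inj] at h12
    set β1 := (a ^ 1)⁻¹ * b * a ^ 1 with hβ1
    set β2 := (a ^ 2)⁻¹ * b * a ^ 2 with hβ2
    refine hfpf (β2⁻¹ * β1) (Q.mul_mem (Q.inv_mem (hQa hb 2)) (hQa hb 1)) ?_ c (hVB _ hc.1) ?_
    · intro hmem
      have h1 := hBinv _ (B.inv_mem hmem)
      refine hdiff 1 h1p ?_
      rw [hβ1, hβ2] at h1
      group at h1 ⊢
      exact h1
    · calc β2⁻¹ * β1 * c = β2⁻¹ * (β1 * c * β1⁻¹) * β1 := by group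
        _ = β2⁻¹ * (β2 * c * β2⁻¹) * β1 := by rw [h12]
        _ = c * (β2⁻¹ * β1) := by group
  · -- `B` is moved
    have hBi : ∀ i, ¬ p ∣ i → ∃ y ∈ B, a ^ i * y * (a ^ i)⁻¹ ∉ B := by
      intro i hi
      by_contra h
      push Not at h
      refine hBinv fun y hy => ?_
      obtain ⟨j, hj⟩ := mem_powers_iff_mem_zpowers.mpr
        (show a ∈ Subgroup.zpowers (a ^ i) by rw [S.zpowers_pow hi]; exact Subgroup.mem_zpowers a)
      rw [← (show (a ^ i) ^ j = a from hj)]
      exact (Subgroup.mem_normalizer_iff.mp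
        (Subgroup.pow_mem _ (Coprime.mem_normalizer_of_forall h) j) y).mp hy
    have hQV : B ≤ Subgroup.normalizer (V : Set G) := by rw [Subgroup.normalizer_eq_top]; exact le_top
    set e : V →* V := Coprime.conjProd hQV
    have hecomm : ∀ g ∈ Q, ∀ (x : V) (hx : g * x * g⁻¹ ∈ V),
        (e ⟨g * x * g⁻¹, hx⟩ : G) = g * e x * g⁻¹ := by
      intro g hg x hx
      cases nonempty_fintype B
      let E : V →* V := (MulAut.conjNormal g : MulAut V).toMonoidHom
      have hE : ∀ v : V, ((E v : V) : G) = g * v * g⁻¹ := fun v => MulAut.conjNormal_apply g v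
      have h1 : (⟨g * x * g⁻¹, hx⟩ : V) = E x := Subtype.ext (hE x).symm
      rw [h1, ← hE]
      refine congrArg Subtype.val ?_
      rw [show e (E x) = _ from Coprime.conjProd_apply hQV (E x),
        show e x = _ from Coprime.conjProd_apply hQV x, map_prod]
      refine Finset.prod_congr rfl fun y _ => Subtype.ext ?_
      rw [Coprime.coe_conjAut, hE, hE, Coprime.coe_conjAut]
      exact habel (hBQ y.2) hg x.2
    obtain ⟨w, hw, hw1⟩ : ∃ w ∈ V ⊓ Subgroup.centralizer (B : Set G), w ≠ 1 := by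
      by_contra h
      push Not at h
      exact hBfix ((Subgroup.eq_bot_iff_forall _).mpr h)
    have hew : ∀ i, ¬ p ∣ i → ∀ hmem : (a ^ i)⁻¹ * w * a ^ i ∈ V,
        (e ⟨(a ^ i)⁻¹ * w * a ^ i, hmem⟩ : G) = 1 := by
      intro i hi hmem
      obtain ⟨y, hy, hyB⟩ := hBi i hi
      set y' := (a ^ i)⁻¹ * y * a ^ i with hy'
      have hyB' : ¬ y' ∈ B ∨ ∃ z ∈ B, (a ^ i)⁻¹ * z * a ^ i ∉ B := by
        by_contra h
        push Not at h
        have hn : (a ^ i)⁻¹ ∈ Subgroup.normalizer (B : Set G) :=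
          Coprime.mem_normalizer_of_forall fun z hz => by rw [inv_inv]; exact h.2 z hz
        exact hyB ((Subgroup.mem_normalizer_iff.mp (by simpa using Subgroup.inv_mem _ hn) y).mp hy)
      obtain ⟨z, hz, hzB⟩ : ∃ z ∈ B, (a ^ i)⁻¹ * z * a ^ i ∉ B := hyB'.elim (fun h => ⟨y, hy, h⟩) id
      refine hfpf _ (hQa (hBQ hz) i) hzB _ (Coprime.conjProd_mem_centralizer hQV _) ?_
      set g := (a ^ i)⁻¹ * z * a ^ i
      have hgw : g * ((a ^ i)⁻¹ * w * a ^ i) * g⁻¹ = (a ^ i)⁻¹ * w * a ^ i := by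
        calc g * ((a ^ i)⁻¹ * w * a ^ i) * g⁻¹ = (a ^ i)⁻¹ * (z * w) * z⁻¹ * a ^ i := by show ((a ^ i)⁻¹ * z * a ^ i) * ((a ^ i)⁻¹ * w * a ^ i) * ((a ^ i)⁻¹ * z * a ^ i)⁻¹ = _; group
          _ = (a ^ i)⁻¹ * (w * z) * z⁻¹ * a ^ i := by rw [hw.2 z hz]
          _ = (a ^ i)⁻¹ * w * a ^ i := by group
      have h1 := hecomm g (hQa (hBQ hz) i) ⟨_, hmem⟩ (hV.conj_mem _ hmem g)
      simp only [hgw] at h1
      exact (eq_mul_inv_iff_mul_eq.mp h1).symm
    obtain ⟨b, hb, hbd⟩ : ∃ b ∈ Q, ((a ^ 2)⁻¹ * b * a ^ 2)⁻¹ * ((a ^ 1)⁻¹ * b * a ^ 1) ∉ B := by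
      by_contra h
      push Not at h
      -- then `[Q, a] ≤ a B a⁻¹`
      set B' := B.comap (MulAut.conj a⁻¹).toMonoidHom
      have hgen' : ⁅Q, A⁆ ≤ B'.comap (MulAut.conj a⁻¹).toMonoidHom ⊔ S0 := by
        refine commutator_zpowers_le (hQA (Subgroup.mem_zpowers a)) fun k hk => ?_
        refine Subgroup.mem_sup_left ?_
        show a⁻¹ * (a⁻¹ * ⁅a, k⁆ * a⁻¹⁻¹) * a⁻¹⁻¹ ∈ B
        have h1 := B.inv_mem (h k⁻¹ (Q.inv_mem hk))
        simp only [commutatorElement_def, pow_two, pow_one] at h1 ⊢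
        group at h1 ⊢
        simp only [zpow_two, pow_two, ← mul_assoc] at h1 ⊢
        exact h1
      have hQA' : ⁅Q, A⁆ = Q := by
        refine le_antisymm (Subgroup.le_normalizer_iff_commutator_le_left.1 hQA) ?_
        by_contra h'
        have hlt' : ⁅Q, A⁆ < Q := lt_of_le_not_ge (Subgroup.le_normalizer_iff_commutator_le_left.1 hQA) h'
        refine hQSt ?_
        rw [← Coprime.commutator_sup_centralizer hQA
          (S.hcop.coprime_dvd_right (Subgroup.card_dvd_of_le hQK)) (Or.inl (hAsol a))]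
        exact sup_le (hprop _ hlt' (Cores.commutator_normalizer_right Q A))
          ((inf_le_inf_right _ hQK).trans hCSt)
      have hcard : Nat.card (B'.comap (MulAut.conj a⁻¹).toMonoidHom) = Nat.card B := by
        show Nat.card ((B.comap (MulAut.conj a⁻¹).toMonoidHom).comap (MulAut.conj a⁻¹).toMonoidHom : Subgroup G) = _
        rw [Subgroup.comap_comap]
        exact Nat.card_congr (((MulAut.conj a⁻¹).trans (MulAut.conj a⁻¹)).toEquiv.subtypeEquiv fun _ => Iff.rfl)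
      have hS0le : S0 ≤ B'.comap (MulAut.conj a⁻¹).toMonoidHom := fun y hy => by
        show a⁻¹ * (a⁻¹ * y * a⁻¹⁻¹) * a⁻¹⁻¹ ∈ B
        have han := Subgroup.inv_mem _ (hS0A (Subgroup.mem_zpowers a))
        exact hS0B ((Subgroup.mem_normalizer_iff.mp han _).mp
          ((Subgroup.mem_normalizer_iff.mp han y).mp hy))
      rw [hQA', sup_eq_left.mpr hS0le] at hgen'
      exact hBlt.ne (Subgroup.eq_of_le_of_card_ge hBQ (hcard ▸ Subgroup.card_le_of_le hgen'))
    have hbS : b ∉ S0 := by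
      intro hbS
      refine hbd (hS0B (S0.mul_mem (S0.inv_mem ?_) ?_)) <;>
        exact (Subgroup.mem_normalizer_iff''.mp
          (hS0A (Subgroup.pow_mem _ (Subgroup.mem_zpowers a) _)) b).mp hbS
    obtain ⟨c, hc, d, hd, hwcd⟩ := hR b hb hbS w hw.1
    have hei : ∀ i, ¬ p ∣ i → (e ⟨c, hc.1⟩ : G) * ((a ^ i)⁻¹ * b * a ^ i * (e ⟨d, hd.1⟩ : G) *
        ((a ^ i)⁻¹ * b * a ^ i)⁻¹) = 1 := by
      intro i hi
      set β := (a ^ i)⁻¹ * b * a ^ i with hβ
      have hwi : (a ^ i)⁻¹ * w * a ^ i = c * (β * d * β⁻¹) := by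
        conv_rhs => rw [← haV hc i, ← haV hd i, hβ]
        rw [hwcd]; group
      have hmem : (a ^ i)⁻¹ * w * a ^ i ∈ V := by
        rw [hwi]; exact V.mul_mem hc.1 (hV.conj_mem d hd.1 β)
      have hE : (⟨(a ^ i)⁻¹ * w * a ^ i, hmem⟩ : V) =
          ⟨c, hc.1⟩ * ⟨β * d * β⁻¹, hV.conj_mem d hd.1 β⟩ := Subtype.ext hwi
      rw [← hew i hi hmem, hE, map_mul, Subgroup.coe_mul, hecomm β (hQa hb i) ⟨d, hd.1⟩]
    have hed : (e ⟨d, hd.1⟩ : G) = 1 := by
      have h12 := mul_left_cancel ((hei 1 h1p).trans (hei 2 h2p).symm)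
      refine hfpf _ (Q.mul_mem (Q.inv_mem (hQa hb 2)) (hQa hb 1)) hbd _
        (Coprime.conjProd_mem_centralizer hQV _) ?_
      set β1 := (a ^ 1)⁻¹ * b * a ^ 1
      set β2 := (a ^ 2)⁻¹ * b * a ^ 2
      set t := (e ⟨d, hd.1⟩ : G)
      calc β2⁻¹ * β1 * t = β2⁻¹ * (β1 * t * β1⁻¹) * β1 := by group
        _ = β2⁻¹ * (β2 * t * β2⁻¹) * β1 := by rw [h12]
        _ = t * (β2⁻¹ * β1) := by group
    have hec : (e ⟨c, hc.1⟩ : G) = 1 := by
      have h1 := hei 1 h1p
      rw [hed] at h1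
      simpa using h1
    have hew0 : (e ⟨w, hw.1⟩ : G) = 1 := by
      have hE : (⟨w, hw.1⟩ : V) = ⟨c, hc.1⟩ * ⟨b * d * b⁻¹, hV.conj_mem d hd.1 b⟩ := Subtype.ext hwcd
      rw [hE, map_mul, Subgroup.coe_mul, hecomm b hb ⟨d, hd.1⟩, hec, hed]
      group
    rw [show e ⟨w, hw.1⟩ = _ from Coprime.conjProd_of_mem_centralizer hQV hw.2, Subgroup.coe_pow] at hew0
    exact hw1 (Subgroup.mem_bot.mp (Coprime.mem_of_pow_mem_of_mem (H := ⊥) hw.1
      (hcoVQ.coprime_dvd_left (Subgroup.card_dvd_of_le hBQ)) (Subgroup.mem_bot.mpr hew0)))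

universe u

/-- Flavell: for `a` of odd prime order `p` normalising a solvable `p'`-group `K`, the fixed points of
`a` in `[K, a]` are generated by those of the subgroups `[h, a]`, `h ∈ K`. -/
theorem fix_le_dd {p : ℕ} (hp : p.Prime) (hodd : p ≠ 2) :
    ∀ (n : ℕ) (G : Type u) [Group G] [Finite G] (a : G) (K : Subgroup G), Nat.card K = n →
      a ∈ Subgroup.normalizer (K : Set G) → orderOf a = p → ¬ p ∣ Nat.card K → Group.IsSolvable K →
      Subgroup.centralizer (Subgroup.zpowers a : Set G) ⊓ ⁅K, Subgroup.zpowers a⁆ ≤ dd a K := by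
  intro n
  induction n using Nat.strong_induction_on with
  | _ n ih =>
  -- the case `G = K⟨a⟩`, `[K, a] = K`
  have core : ∀ (G : Type u) [Group G] [Finite G] (a : G) (K : Subgroup G), Nat.card K = n →
      a ∈ Subgroup.normalizer (K : Set G) → orderOf a = p → ¬ p ∣ Nat.card K → Group.IsSolvable K →
      K ⊔ Subgroup.zpowers a = ⊤ → ⁅K, Subgroup.zpowers a⁆ = K →
      K ⊓ Subgroup.centralizer (Subgroup.zpowers a : Set G) ≤ dd a K := by
    intro G _ _ a K hn ha hord hnd hsol htop hgen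
    set A := Subgroup.zpowers a with hA
    have hKn : K.Normal := Subgroup.normalizer_eq_top_iff.mp (top_le_iff.mp
      (htop ▸ sup_le Subgroup.le_normalizer (Subgroup.zpowers_le.mpr ha)))
    rcases eq_or_ne K ⊥ with hK0 | hK0
    · exact inf_le_left.trans (hK0.le.trans bot_le)
    have S : Setup a K p :=
      { normal := hKn
        prime := hp
        odd := hodd
        order := hord
        coprime := hnd
        solvable := hsol
        gen := hgen
        top := htop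
        ihSub := fun L hL hAL => by
          have hlt : Nat.card L < n := by
            rw [← hn]
            by_contra h
            exact hL.ne (Subgroup.eq_of_le_of_card_ge hL.le (not_lt.mp h))
          exact (ih _ hlt G a L rfl (hAL (Subgroup.mem_zpowers a)) hord
            (fun h => hnd (h.trans (Subgroup.card_dvd_of_le hL.le)))
            (Coprime.isSolvable_of_le hL.le hsol)).trans (dd_mono hL.le)
        ihQuot := fun N hN hNK hN0 => by
          set f := QuotientGroup.mk' N with hf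
          have hfs : Function.Surjective f := QuotientGroup.mk'_surjective N
          have hKn' : (K.map f).Normal := hKn.map f hfs
          have hcard : Nat.card (K.map f) < n := by
            have h1 := Cores.card_map_mul_ker f K (by rw [hf, QuotientGroup.ker_mk']; exact hNK)
            rw [hf, QuotientGroup.ker_mk'] at h1
            rw [← hn, ← h1]
            exact lt_mul_of_one_lt_right Nat.card_pos
              ((Subgroup.one_lt_card_iff_ne_bot N).mpr hN0)
          have hfa : orderOf (f a) = p := by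
            refine (hp.eq_one_or_self_of_dvd _ (hord ▸ orderOf_map_dvd f a)).resolve_left fun h => ?_
            have haN : a ∈ N := (QuotientGroup.eq_one_iff a).mp (orderOf_eq_one_iff.mp h)
            refine hnd (hord ▸ ?_)
            have := orderOf_dvd_natCard (⟨a, hNK haN⟩ : K)
            rwa [← Subgroup.orderOf_coe] at this
          have h1 := ih _ hcard (G ⧸ N) (f a) (K.map f) rfl
            (by rw [Subgroup.normalizer_eq_top]; trivial) hfa
            (fun h => hnd (h.trans (Subgroup.card_map_dvd K f)))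
            (Group.isSolvable_of_surjective (f.subgroupMap_surjective K))
          intro x hx
          have hx' : f x ∈ dd (f a) (K.map f) := by
            refine h1 ⟨?_, ?_⟩
            · exact mem_centralizer_of_commute ((commute_of_mem_centralizer hx.2).map f)
            · rw [← MonoidHom.map_zpowers, ← Subgroup.map_commutator, hgen]
              exact ⟨x, hx.1, rfl⟩
          obtain ⟨d, hd, hdx⟩ := dd_image f ha (by
            rw [Nat.card_zpowers, hord]; exact hp.coprime_iff_not_dvd.mpr hnd) hx'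
          rw [show x = d * (d⁻¹ * x) by group]
          exact Subgroup.mul_mem_sup hd ((QuotientGroup.eq_one_iff _).mp (by
            show f (d⁻¹ * x) = 1
            rw [map_mul, map_inv, hdx, inv_mul_cancel])) }
    haveI := hKn
    haveI := hsol
    obtain ⟨r, hr, V, hVn, hV0, hVK, hVc, hVr, -, hmin⟩ := Solvable.exists_minimal_normal_pGroup hK0
    haveI := Fact.mk hr
    by_cases hrK : IsPGroup r K
    · exact S.of_pgroup hrK
    by_cases hcen : ∀ v ∈ V, ∀ k ∈ K, k * v = v * k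
    · exact S.of_central hVn hVK hV0 hVr hrK hcen
    · haveI := hVc
      exact S.of_noncentral hVn hVK hV0 hVr hrK hmin hcen
  intro G _ _ a K hn ha hord hnd hsol
  set A := Subgroup.zpowers a with hA
  have hAK : A ≤ Subgroup.normalizer (K : Set G) := Subgroup.zpowers_le.mpr ha
  have hcop : (Nat.card A).Coprime (Nat.card K) := by
    rw [Nat.card_zpowers, hord]; exact hp.coprime_iff_not_dvd.mpr hnd
  by_cases hgen : ⁅K, A⁆ = K
  · -- pass to `K⟨a⟩`
    rw [hgen]
    set T : Subgroup G := K ⊔ A with hT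
    set a' : T := ⟨a, Subgroup.mem_sup_right (Subgroup.mem_zpowers a)⟩
    set K' : Subgroup T := K.subgroupOf T
    have hmapK : K'.map T.subtype = K := Subgroup.map_subgroupOf_eq_of_le le_sup_left
    have hmapA : (Subgroup.zpowers a').map T.subtype = A := by rw [MonoidHom.map_zpowers]; rfl
    have h := core T a' K' ((Cores.card_subgroupOf le_sup_left).trans hn) ?_ ?_ ?_ ?_ ?_ ?_
    · rintro x ⟨hxC, hxK⟩
      have hmem : (⟨x, Subgroup.mem_sup_left hxK⟩ : T) ∈
          K' ⊓ Subgroup.centralizer (Subgroup.zpowers a' : Set T) :=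
        ⟨hxK, mem_centralizer_of_commute (Subtype.ext (commute_of_mem_centralizer hxC).eq)⟩
      have h2 := map_dd_le T.subtype a' K' (Subgroup.mem_map_of_mem T.subtype (h hmem))
      rw [hmapK] at h2
      exact h2
    · exact Coprime.mem_normalizer_of_forall fun y hy =>
        (Subgroup.mem_normalizer_iff.mp ha (y : G)).mp hy
    · rw [← Subgroup.orderOf_coe]; exact hord
    · rwa [Cores.card_subgroupOf le_sup_left]
    · exact Group.isSolvable_of_isSolvable_injective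
        (f := (Subgroup.subgroupOfEquivOfLe (le_sup_left : K ≤ T)).toMonoidHom) (MulEquiv.injective _)
    · refine Subgroup.map_injective T.subtype_injective ?_
      rw [Subgroup.map_sup, hmapK, hmapA, ← MonoidHom.range_eq_map, Subgroup.range_subtype]
    · refine Subgroup.map_injective T.subtype_injective ?_
      rw [Subgroup.map_commutator, hmapK, hmapA, hgen]
  · have hle : ⁅K, A⁆ ≤ K := Coprime.commutator_le_left' hAK
    have hlt : Nat.card ↥⁅K, A⁆ < n := by
      rw [← hn]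
      by_contra h
      exact hgen (Subgroup.eq_of_le_of_card_ge hle (not_lt.mp h))
    have h := ih _ hlt G a ⁅K, A⁆ rfl (Cores.commutator_normalizer_right K A (Subgroup.mem_zpowers a))
      hord (fun h => hnd (h.trans (Subgroup.card_dvd_of_le hle))) (Coprime.isSolvable_of_le hle hsol)
    rw [Coprime.commutator_commutator_eq hAK hcop (Or.inl (hAsol a))] at h
    exact h.trans (dd_mono hle)

end Cfsg.Agent.FlavellGen
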