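import Cfsg.Agent.Lib.FlavellGen.Basic
import Cfsg.Agent.Lib.PGroup.Basic
import Cfsg.Agent.Lib.Cores.Subnormal

/-!
# Flavell: the inductive step

`Setup a K p`: `K` normal in `G = K⟨a⟩` solvable `p'`, `a` of odd prime order `p`, `[K, a] = K`, and
the inductive hypotheses. Then `C_K(a) ≤ dd a K`:
* `Setup.of_pgroup` : `K` an `r`-group;
* `Setup.of_central` : `V` central;
* `Setup.of_noncentral` : `V` a non-central minimal normal subgroup.
-/

set_option autoImplicit false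
set_option linter.style.haveILetI false

open scoped Pointwise commutatorElement IsMulCommutative

namespace Cfsg.Agent.FlavellGen

variable {G : Type*} [Group G] [Finite G] {a : G} {K : Subgroup G} {p : ℕ}

/-- The data of a minimal configuration. -/
structure Setup (a : G) (K : Subgroup G) (p : ℕ) : Prop where
  normal : K.Normal
  prime : p.Prime
  odd : p ≠ 2
  order : orderOf a = p
  coprime : ¬ p ∣ Nat.card K
  solvable : Group.IsSolvable K
  gen : ⁅K, Subgroup.zpowers a⁆ = K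
  top : K ⊔ Subgroup.zpowers a = ⊤
  ihSub : ∀ L : Subgroup G, L < K → Subgroup.zpowers a ≤ Subgroup.normalizer (L : Set G) →
    Subgroup.centralizer (Subgroup.zpowers a : Set G) ⊓ ⁅L, Subgroup.zpowers a⁆ ≤ dd a K
  ihQuot : ∀ N : Subgroup G, N.Normal → N ≤ K → N ≠ ⊥ →
    K ⊓ Subgroup.centralizer (Subgroup.zpowers a : Set G) ≤ dd a K ⊔ N

variable (S : Setup a K p)
include S

theorem Setup.hcop : (Nat.card (Subgroup.zpowers a)).Coprime (Nat.card K) := by
  rw [Nat.card_zpowers, S.order]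
  exact S.prime.coprime_iff_not_dvd.mpr S.coprime

theorem Setup.hAK : Subgroup.zpowers a ≤ Subgroup.normalizer (K : Set G) := by
  haveI := S.normal
  rw [Subgroup.normalizer_eq_top]; exact le_top

theorem Setup.ha : a ∈ Subgroup.normalizer (K : Set G) := S.hAK (Subgroup.mem_zpowers a)

omit S [Finite G] in
theorem hAsol (a : G) : Group.IsSolvable (Subgroup.zpowers a) :=
  Group.isSolvable_of_comm fun x y => mul_comm' x y

/-- Every nontrivial power of `a` generates `⟨a⟩`. -/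
theorem Setup.zpowers_pow {i : ℕ} (hi : ¬ p ∣ i) : Subgroup.zpowers (a ^ i) = Subgroup.zpowers a := by
  refine Subgroup.eq_of_le_of_card_ge
    (Subgroup.zpowers_le.mpr (Subgroup.pow_mem _ (Subgroup.mem_zpowers a) i)) ?_
  rw [Nat.card_zpowers, Nat.card_zpowers, S.order,
    orderOf_pow' _ (fun h => hi (by rw [h]; exact dvd_zero p)), S.order,
    Nat.Coprime.gcd_eq_one (S.prime.coprime_iff_not_dvd.mpr hi), Nat.div_one]

/-- The fixed points lie in `K'`. -/
theorem Setup.fix_le_derived :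
    K ⊓ Subgroup.centralizer (Subgroup.zpowers a : Set G) ≤ ⁅K, K⁆ := by
  haveI := S.normal
  set f := QuotientGroup.mk' (⁅K, K⁆)
  haveI hc : IsMulCommutative (K.map f) := by
    rw [← Subgroup.le_centralizer_iff_isMulCommutative, ← Subgroup.commutator_eq_bot_iff_le_centralizer,
      ← Subgroup.map_commutator, Subgroup.map_eq_bot_iff, QuotientGroup.ker_mk']
  haveI : (K.map f).Normal := S.normal.map f (QuotientGroup.mk'_surjective _)
  rintro x ⟨hxK, hxC⟩
  have h := Coprime.abelian_inf_eq_bot (A := (Subgroup.zpowers a).map f) (V := K.map f)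
    (by rw [Subgroup.normalizer_eq_top]; exact le_top)
    ((S.hcop.coprime_dvd_left (Subgroup.card_map_dvd _ f)).coprime_dvd_right (Subgroup.card_map_dvd _ f))
  have hx : f x ∈ (K.map f ⊓ Subgroup.centralizer ((Subgroup.zpowers a).map f : Set (G ⧸ ⁅K, K⁆))) ⊓
      ⁅K.map f, (Subgroup.zpowers a).map f⁆ := by
    refine ⟨⟨⟨x, hxK, rfl⟩, ?_⟩, ?_⟩
    · rintro _ ⟨b, hb, rfl⟩
      rw [← map_mul, ← map_mul, Subgroup.mem_centralizer_iff.mp hxC b hb]
    · rw [← Subgroup.map_commutator, S.gen]; exact ⟨x, hxK, rfl⟩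
  rw [h, Subgroup.mem_bot] at hx
  exact (QuotientGroup.eq_one_iff x).mp hx

/-- Averaging over `⟨a⟩` a member of an invariant subgroup lands in its fixed points. -/
theorem Setup.conjProd_mem {N W : Subgroup G} [IsMulCommutative N]
    (hN : Subgroup.zpowers a ≤ Subgroup.normalizer (N : Set G))
    (hW : Subgroup.zpowers a ≤ Subgroup.normalizer (W : Set G)) {z : N} (hz : (z : G) ∈ W) :
    (Coprime.conjProd hN z : G) ∈ W ⊓ Subgroup.centralizer (Subgroup.zpowers a : Set G) := by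
  refine ⟨?_, (Coprime.conjProd_mem_centralizer hN z).2⟩
  cases nonempty_fintype (Subgroup.zpowers a)
  rw [Coprime.conjProd_apply]
  have h : (∏ b : Subgroup.zpowers a, Coprime.conjAut hN b z) ∈ W.subgroupOf N :=
    Subgroup.prod_mem _ fun b _ => Subgroup.mem_subgroupOf.mpr (by
      rw [Coprime.coe_conjAut]
      exact (Subgroup.mem_normalizer_iff.mp (hW b.2) _).mp hz)
  exact h

/-- The step when `K` is an `r`-group. -/
theorem Setup.of_pgroup {r : ℕ} [Fact r.Prime] (hr : IsPGroup r K) :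
    K ⊓ Subgroup.centralizer (Subgroup.zpowers a : Set G) ≤ dd a K := by
  haveI := S.normal
  set A := Subgroup.zpowers a with hA
  set C := K ⊓ Subgroup.centralizer (A : Set G) with hC
  have hfull : ∀ h ∈ K, K ≤ cc a h → C ≤ dd a K := fun h hh hle =>
    le_trans (inf_le_inf_right _ hle) (inf_le_dd hh)
  have hgenK : ∀ W : Subgroup G, (∀ h ∈ K, cc a h ≤ W) → K ≤ W := fun W hW => by
    have := commutator_le_of_cc hW
    rwa [S.gen] at this
  haveI := hr.isNilpotent
  obtain ⟨m, hm⟩ := Subgroup.nilpotent_iff_lowerCentralSeries.mp (inferInstance : Group.IsNilpotent K)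
  have hm' : K.lowerCentralSeries m = ⊥ := by
    rw [← Subgroup.top_subtype_lowerCentralSeries, hm, Subgroup.map_bot]
  classical
  have hex : ∃ n, K.lowerCentralSeries n = ⊥ := ⟨m, hm'⟩
  rcases Nat.lt_or_ge (Nat.find hex) 2 with h2 | h2
  · -- abelian
    have h1 : K.lowerCentralSeries 1 = ⊥ := le_bot_iff.mp
      ((K.lowerCentralSeries_antitone (by omega : Nat.find hex ≤ 1)).trans (Nat.find_spec hex).le)
    rw [Subgroup.lowerCentralSeries_succ, Subgroup.lowerCentralSeries_zero] at h1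
    exact S.fix_le_derived.trans (h1.le.trans bot_le)
  obtain ⟨n, hn⟩ : ∃ n, Nat.find hex = n + 2 := ⟨Nat.find hex - 2, by omega⟩
  set N := K.lowerCentralSeries (n + 1) with hNdef
  have hN0 : N ≠ ⊥ := fun h => Nat.find_min hex (by omega : n + 1 < Nat.find hex) h
  have hN1 : ⁅N, K⁆ = ⊥ := by
    rw [hNdef, ← Subgroup.lowerCentralSeries_succ, show n + 1 + 1 = n + 2 from rfl, ← hn]
    exact Nat.find_spec hex
  have hNK : N ≤ K := K.lowerCentralSeries_le_self _
  have hcen : ∀ z ∈ N, ∀ k ∈ K, k * z = z * k := fun z hz k hk =>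
    Subgroup.mem_centralizer_iff.mp ((Subgroup.commutator_eq_bot_iff_le_centralizer.mp hN1) hz) k hk
  haveI hNc : IsMulCommutative N := ⟨⟨fun x y => Subtype.ext (hcen y y.2 x (hNK x.2))⟩⟩
  have hNA : A ≤ Subgroup.normalizer (N : Set G) := by rw [Subgroup.normalizer_eq_top]; exact le_top
  set e : N →* N := Coprime.conjProd hNA
  -- the subgroup of good commutators
  let Γ : Subgroup G := (((dd a K).subgroupOf N).comap e).map N.subtype
  have memΓ : ∀ {z : G} (hz : z ∈ N), z ∈ Γ ↔ (e ⟨z, hz⟩ : G) ∈ dd a K := fun {z} hz => by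
    constructor
    · rintro ⟨w, hw, hwz⟩
      have : w = ⟨z, hz⟩ := Subtype.ext hwz
      subst this; exact hw
    · exact fun h => ⟨⟨z, hz⟩, h, rfl⟩
  suffices hle : N ≤ Γ by
    have hCN : C ⊓ N ≤ dd a K := by
      rintro z ⟨hz, hzN⟩
      have h := (memΓ hzN).mp (hle hzN)
      rw [show e = Coprime.conjProd hNA from rfl, Coprime.conjProd_of_mem_centralizer hNA hz.2,
        Subgroup.coe_pow] at h
      exact Coprime.mem_of_pow_mem_of_mem hzN (S.hcop.coprime_dvd_right (Subgroup.card_dvd_of_le hNK)) h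
    intro x hx
    obtain ⟨d, hd, w, hw, rfl⟩ :=
      Subgroup.mem_sup_of_normal_right.mp (S.ihQuot N inferInstance hNK hN0 hx)
    refine (dd a K).mul_mem hd (hCN ⟨?_, hw⟩)
    simpa using C.mul_mem (C.inv_mem (dd_le S.ha hd)) hx
  -- basic commutator algebra
  have hcommN : ∀ {x y : G}, x ∈ K.lowerCentralSeries n → y ∈ K → ⁅x, y⁆ ∈ N := fun hx hy => by
    rw [hNdef, Subgroup.lowerCentralSeries_succ]; exact Subgroup.commutator_mem_commutator hx hy
  have hlin : ∀ {x y y' : G}, x ∈ K.lowerCentralSeries n → y ∈ K → y' ∈ K →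
      ⁅x, y * y'⁆ = ⁅x, y⁆ * ⁅x, y'⁆ := fun {x y y'} hx hy hy' => by
    have h1 := hcen _ (hcommN hx hy') y hy
    calc ⁅x, y * y'⁆ = ⁅x, y⁆ * (y * ⁅x, y'⁆ * y⁻¹) := by simp only [commutatorElement_def]; group
      _ = ⁅x, y⁆ * ⁅x, y'⁆ := by rw [h1]; group
  have hlinInv : ∀ {x y : G}, x ∈ K.lowerCentralSeries n → y ∈ K → ⁅x, y⁻¹⁆ = (⁅x, y⁆)⁻¹ :=
    fun {x y} hx hy => eq_inv_of_mul_eq_one_left (by
      rw [← hlin hx (K.inv_mem hy) hy, inv_mul_cancel, commutatorElement_one_right])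
  have hconjΓ : ∀ {z : G}, z ∈ N → a * z * a⁻¹ ∈ Γ → z ∈ Γ := fun {z} hz h => by
    have hz' : a * z * a⁻¹ ∈ N := (Subgroup.mem_normalizer_iff.mp (hNA (Subgroup.mem_zpowers a)) z).mp hz
    refine (memΓ hz).mpr ?_
    rw [← Coprime.conjProd_conjAut hNA ⟨a, Subgroup.mem_zpowers a⟩ ⟨z, hz⟩]
    exact (memΓ hz').mp h
  -- for a fixed left entry it suffices to treat a generating family
  rw [hNdef, Subgroup.lowerCentralSeries_succ, Subgroup.commutator_le]
  intro x hx
  let R : Subgroup G :=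
    { carrier := {y | y ∈ K ∧ ⁅x, y⁆ ∈ Γ}
      mul_mem' := fun {y y'} hy hy' => ⟨K.mul_mem hy.1 hy'.1, by
        rw [hlin hx hy.1 hy'.1]; exact Γ.mul_mem hy.2 hy'.2⟩
      one_mem' := ⟨K.one_mem, by rw [commutatorElement_one_right]; exact Γ.one_mem⟩
      inv_mem' := fun {y} hy => ⟨K.inv_mem hy.1, by rw [hlinInv hx hy.1]; exact Γ.inv_mem hy.2⟩ }
  suffices hR : K ≤ R from fun y hy => (hR hy).2
  rcases Nat.eq_zero_or_pos n with hn0 | hnpos
  · -- class two
    subst hn0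
    have hder : ⁅K, K⁆ = N := by
      rw [hNdef, Subgroup.lowerCentralSeries_succ, Subgroup.lowerCentralSeries_zero]
    have hlinL : ∀ {x y z : G}, x ∈ K → y ∈ K → z ∈ K → ⁅x * y, z⁆ = ⁅x, z⁆ * ⁅y, z⁆ :=
      fun {x y z} hx hy hz => by
        have h1 := hcen _ (hcommN (x := y) (y := z) hy hz) x hx
        calc ⁅x * y, z⁆ = x * ⁅y, z⁆ * x⁻¹ * ⁅x, z⁆ := by simp only [commutatorElement_def]; group
          _ = ⁅y, z⁆ * ⁅x, z⁆ := by rw [h1]; group
          _ = ⁅x, z⁆ * ⁅y, z⁆ := (hcen _ (hcommN (x := x) (y := z) hx hz) _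
              (hNK (hcommN (x := y) (y := z) hy hz)))
    -- `K` consists of the `h⁻¹ a h a⁻¹` modulo `N`
    have hg1 : ∀ {h : G}, h ∈ K → h⁻¹ * a * h * a⁻¹ ∈ K := fun hh =>
      cc_le S.ha hh (gen_one_mem_cc a _)
    let T : Subgroup G :=
      { carrier := {w | ∃ h ∈ K, w⁻¹ * (h⁻¹ * a * h * a⁻¹) ∈ N}
        mul_mem' := by
          rintro u v ⟨h, hh, hu⟩ ⟨k, hk, hv⟩
          refine ⟨h * k, K.mul_mem hh hk, ?_⟩
          have e1 : (u * v)⁻¹ * ((h * k)⁻¹ * a * (h * k) * a⁻¹) =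
              v⁻¹ * (u⁻¹ * (h⁻¹ * a * h * a⁻¹)) * v⁻¹⁻¹ * (v⁻¹ * ⁅(h⁻¹ * a * h * a⁻¹)⁻¹, k⁻¹⁆ * v⁻¹⁻¹) *
                (v⁻¹ * (k⁻¹ * a * k * a⁻¹)) := by
            simp only [commutatorElement_def]; group
          rw [e1]
          exact N.mul_mem (N.mul_mem ((inferInstance : N.Normal).conj_mem _ hu _)
            ((inferInstance : N.Normal).conj_mem _
              (hder ▸ Subgroup.commutator_mem_commutator (K.inv_mem (hg1 hh)) (K.inv_mem hk)) _)) hv
        one_mem' := ⟨1, K.one_mem, by simp⟩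
        inv_mem' := by
          rintro u ⟨h, hh, hu⟩
          refine ⟨h⁻¹, K.inv_mem hh, ?_⟩
          have e1 : u⁻¹⁻¹ * (h⁻¹⁻¹ * a * h⁻¹ * a⁻¹) =
              u * (⁅h, (h⁻¹ * a * h * a⁻¹)⁻¹⁆ * 1) * u⁻¹ * (u * (u⁻¹ * (h⁻¹ * a * h * a⁻¹))⁻¹ * u⁻¹) := by
            simp only [commutatorElement_def]; group
          rw [e1]
          exact N.mul_mem ((inferInstance : N.Normal).conj_mem _ (N.mul_mem
            (hder ▸ Subgroup.commutator_mem_commutator hh (K.inv_mem (hg1 hh))) N.one_mem) _)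
            ((inferInstance : N.Normal).conj_mem _ (N.inv_mem hu) _) }
    have hTconj : ∀ {w : G}, w ∈ T → a * w * a⁻¹ ∈ T := by
      rintro w ⟨h, hh, hw⟩
      refine ⟨a * h * a⁻¹, (Subgroup.mem_normalizer_iff.mp S.ha h).mp hh, ?_⟩
      have e1 : (a * w * a⁻¹)⁻¹ * ((a * h * a⁻¹)⁻¹ * a * (a * h * a⁻¹) * a⁻¹) =
          a * (w⁻¹ * (h⁻¹ * a * h * a⁻¹)) * a⁻¹ := by group
      rw [e1]
      exact (inferInstance : N.Normal).conj_mem _ hw a
    have hT : K ≤ T := hgenK T fun h hh => by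
      rw [cc, Subgroup.closure_le]
      rintro _ ⟨i, rfl⟩
      show h⁻¹ * a ^ i * h * (a ^ i)⁻¹ ∈ T
      induction i with
      | zero => simp
      | succ i ih =>
        have e1 : h⁻¹ * a ^ (i + 1) * h * (a ^ (i + 1))⁻¹ =
            (h⁻¹ * a * h * a⁻¹) * (a * (h⁻¹ * a ^ i * h * (a ^ i)⁻¹) * a⁻¹) := by
          rw [pow_succ']; group
        rw [e1]
        exact T.mul_mem ⟨h, hh, by rw [inv_mul_cancel]; exact N.one_mem⟩ (hTconj ih)
    have hca : ∀ {y : G}, y ∈ K → a * y * a⁻¹ ∈ K := fun {y} hy =>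
      (Subgroup.mem_normalizer_iff.mp S.ha y).mp hy
    -- isotropy
    have hiso : ∀ w ∈ K, ⁅w, a * w * a⁻¹⁆ ∈ Γ := by
      intro w hw
      obtain ⟨h, hh, hwh⟩ := hT hw
      set u := h⁻¹ * a * h * a⁻¹ with hu
      obtain ⟨z, hz, rfl⟩ : ∃ z ∈ N, w = u * z := ⟨u⁻¹ * w, by
        have := N.inv_mem hwh
        simpa using this, by group⟩
      have huK : u ∈ K := hg1 hh
      have hz' : a * z * a⁻¹ ∈ N := (Subgroup.mem_normalizer_iff.mp (hNA (Subgroup.mem_zpowers a)) z).mp hz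
      have e1 : ⁅u * z, a * (u * z) * a⁻¹⁆ = ⁅u, a * u * a⁻¹⁆ := by
        rw [show a * (u * z) * a⁻¹ = (a * u * a⁻¹) * (a * z * a⁻¹) by group,
          hlinL huK (hNK hz) (K.mul_mem (hca huK) (hNK hz')),
          commutatorElement_eq_one_iff_mul_comm.mpr
            (hcen z hz _ (K.mul_mem (hca huK) (hNK hz'))).symm, mul_one,
          hlin (x := u) huK (hca huK) (hNK hz'),
          commutatorElement_eq_one_iff_mul_comm.mpr (hcen _ hz' u huK), mul_one]
      rw [e1]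
      have hmem : ⁅u, a * u * a⁻¹⁆ ∈ N := hcommN (x := u) huK (hca huK)
      refine (memΓ hmem).mpr (inf_le_dd hh (S.conjProd_mem hNA (zpowers_le_normalizer_cc a h) ?_))
      show ⁅u, a * u * a⁻¹⁆ ∈ cc a h
      rw [commutatorElement_def]
      have h1 := gen_one_mem_cc a h
      have h2 := cc_conj_mem a h h1
      exact Subgroup.mul_mem _ (Subgroup.mul_mem _ (Subgroup.mul_mem _ h1 h2)
        (Subgroup.inv_mem _ h1)) (Subgroup.inv_mem _ h2)
    -- polarisation
    have hpol : ∀ v ∈ K, ⁅x, ⁅a ^ 2, v⁆⁆ ∈ Γ := by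
      intro v0 hv0
      set v := a * v0 * a⁻¹ with hv
      have hvK : v ∈ K := hca hv0
      have hxK : x ∈ K := hx
      have hai : a⁻¹ * v * a ∈ K := by rw [hv]; simpa [mul_assoc] using hv0
      have h1 := hiso _ (K.mul_mem hxK hvK)
      rw [show a * (x * v) * a⁻¹ = (a * x * a⁻¹) * (a * v * a⁻¹) by group,
        hlinL hxK hvK (K.mul_mem (hca hxK) (hca hvK)), hlin (x := x) hxK (hca hxK) (hca hvK),
        hlin (x := v) hvK (hca hxK) (hca hvK)] at h1
      have h3 : ⁅x, a * v * a⁻¹⁆ * ⁅v, a * x * a⁻¹⁆ ∈ Γ := by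
        have h4 := Γ.mul_mem (Γ.mul_mem (Γ.inv_mem (hiso x hxK)) h1) (Γ.inv_mem (hiso v hvK))
        group at h4 ⊢
        exact h4
      -- `⁅v, a x a⁻¹⁆` and `⁅a⁻¹ v a, x⁆` agree on averages
      have hm1 : ⁅x, a * v * a⁻¹⁆ ∈ N := hcommN (x := x) hxK (hca hvK)
      have hm2 : ⁅a⁻¹ * v * a, x⁆ ∈ N := hcommN (x := a⁻¹ * v * a) hai hxK
      have e2 : a * ⁅a⁻¹ * v * a, x⁆ * a⁻¹ = ⁅v, a * x * a⁻¹⁆ := by
        simp only [commutatorElement_def]; group
      have h5 : ⁅x, a * v * a⁻¹⁆ * ⁅a⁻¹ * v * a, x⁆ ∈ Γ := by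
        have hm3 : ⁅v, a * x * a⁻¹⁆ ∈ N := hcommN (x := v) hvK (hca hxK)
        have h6 := (memΓ (N.mul_mem hm1 hm3)).mp h3
        refine (memΓ (N.mul_mem hm1 hm2)).mpr ?_
        have h7 : e ⟨_, hm3⟩ = e ⟨_, hm2⟩ := by
          have h8 := Coprime.conjProd_conjAut hNA ⟨a, Subgroup.mem_zpowers a⟩ ⟨_, hm2⟩
          have h9 : Coprime.conjAut hNA ⟨a, Subgroup.mem_zpowers a⟩ ⟨_, hm2⟩ = ⟨_, hm3⟩ :=
            Subtype.ext (by rw [Coprime.coe_conjAut]; exact e2)
          rw [h9] at h8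
          exact h8
        have h10 : e ⟨_, N.mul_mem hm1 hm2⟩ = e ⟨_, N.mul_mem hm1 hm3⟩ := by
          rw [← MulMemClass.mk_mul_mk N _ _ hm1 hm2, ← MulMemClass.mk_mul_mk N _ _ hm1 hm3,
            map_mul, map_mul, h7]
        rw [h10]; exact h6
      rw [show ⁅a ^ 2, v0⁆ = (a * v * a⁻¹) * (a⁻¹ * v * a)⁻¹ by
          rw [hv, commutatorElement_def, sq]; group,
        hlin (x := x) hxK (hca hvK) (K.inv_mem hai), hlinInv (x := x) hxK hai,
        commutatorElement_inv]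
      exact h5
    have h2 : Subgroup.zpowers (a ^ 2) = Subgroup.zpowers a := S.zpowers_pow fun h =>
      S.odd ((Nat.prime_dvd_prime_iff_eq S.prime Nat.prime_two).mp h)
    have h3 := commutator_zpowers_le (b := a ^ 2) (K := K) (W := R)
      (Subgroup.pow_mem _ S.ha 2) fun v hv => ⟨?_, hpol v hv⟩
    · rw [h2, S.gen] at h3; exact h3
    · rw [commutatorElement_def]
      exact K.mul_mem ((Subgroup.mem_normalizer_iff.mp (Subgroup.pow_mem _ S.ha 2) v).mp hv)
        (K.inv_mem hv)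
  · -- class at least three
    refine hgenK R fun h hh u hu => ⟨cc_le S.ha hh hu, ?_⟩
    have huK : u ∈ K := cc_le S.ha hh hu
    set L := K.lowerCentralSeries n ⊔ cc a h with hL
    have hLK : L ≤ K := sup_le (K.lowerCentralSeries_le_self n) (cc_le S.ha hh)
    have hLA : A ≤ Subgroup.normalizer (L : Set G) := by
      rw [hA, Subgroup.zpowers_le]
      refine Coprime.mem_normalizer_of_forall fun y hy => ?_
      obtain ⟨s, hs, t, ht, rfl⟩ := Subgroup.mem_sup_of_normal_left.mp hy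
      rw [show a * (s * t) * a⁻¹ = (a * s * a⁻¹) * (a * t * a⁻¹) by group]
      exact Subgroup.mul_mem_sup
        ((inferInstance : (K.lowerCentralSeries n).Normal).conj_mem s hs a) (cc_conj_mem a h ht)
    have hmem : ⁅x, u⁆ ∈ N := hcommN hx huK
    refine (memΓ hmem).mpr ?_
    rcases hLK.eq_or_lt with hLeq | hLlt
    · -- then `cc a h` is everything
      refine hfull h hh ?_ ⟨(Coprime.conjProd hNA _).2 |> (hNK ·), (Coprime.conjProd_mem_centralizer hNA _).2⟩
      have hγ : K.lowerCentralSeries n ≤ ⁅K, K⁆ := by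
        refine (K.lowerCentralSeries_antitone hnpos).trans ?_
        rw [Subgroup.lowerCentralSeries_succ, Subgroup.lowerCentralSeries_zero]
      by_contra hne
      have hlt : (cc a h).subgroupOf K ≠ ⊤ := fun he => hne (Subgroup.subgroupOf_eq_top.mp he)
      obtain ⟨M, hM, hMle⟩ := (IsCoatomic.eq_top_or_exists_le_coatom ((cc a h).subgroupOf K)).resolve_left hlt
      have hKK : (⁅K, K⁆).subgroupOf K ≤ M := by
        refine le_trans ?_ (PGroup.commutator_le_of_isCoatom hr hM)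
        intro y hy
        have hmap : (_root_.commutator K).map K.subtype = ⁅K, K⁆ := by
          rw [_root_.commutator_def, Subgroup.map_commutator, ← MonoidHom.range_eq_map,
            Subgroup.range_subtype]
        obtain ⟨w, hw, hwy⟩ := hmap.ge (show (y : G) ∈ ⁅K, K⁆ from hy)
        rwa [← Subtype.ext (show (w : G) = (y : G) from hwy)]
      have hall : L ≤ M.map K.subtype := sup_le
        (hγ.trans fun y hy => ⟨⟨y, Subgroup.commutator_le_self K hy⟩, hKK hy, rfl⟩)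
        fun y hy => ⟨⟨y, cc_le S.ha hh hy⟩, hMle hy, rfl⟩
      refine hM.1 (top_le_iff.mp fun y _ => ?_)
      obtain ⟨w, hw, hwy⟩ := hall (hLeq.ge y.2)
      rwa [← Subtype.ext (show (w : G) = (y : G) from hwy)]
    · have hu' : u ∈ ⁅L, A⁆ := (Subgroup.commutator_mono le_sup_right le_rfl)
        (cc_le_commutator_cc S.ha S.hcop hh hu)
      have hxu : ⁅x, u⁆ ∈ ⁅L, A⁆ := by
        rw [show ⁅x, u⁆ = (x * u * x⁻¹) * u⁻¹ by rw [commutatorElement_def]]
        exact Subgroup.mul_mem _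
          ((Subgroup.mem_normalizer_iff.mp
            (Cores.commutator_normalizer_left L A (Subgroup.mem_sup_left hx)) u).mp hu')
          (Subgroup.inv_mem _ hu')
      have := S.conjProd_mem (W := ⁅L, A⁆) hNA
        (Cores.commutator_normalizer_right L A) (z := ⟨_, hmem⟩) hxu
      exact S.ihSub L hLlt hLA ⟨this.2, this.1⟩

end Cfsg.Agent.FlavellGen
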